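import Cfsg.Agent.Lib.CharCore.Rep
import Mathlib.LinearAlgebra.Matrix.Kronecker
import Mathlib.LinearAlgebra.Trace
import Mathlib.LinearAlgebra.PID

/-!
# The alternating square of a character
-/

set_option autoImplicit false

open scoped Kronecker

namespace Cfsg.Agent.SmallGroups.DegTwo

variable {G : Type*} [Group G]

/-- The alternating square of a character is a character. -/
theorem isCharacter_altSquare {χ : G → ℂ} (hχ : Cfsg.IsCharacter G χ) :
    Cfsg.IsCharacter G (fun g => (χ g ^ 2 - χ (g ^ 2)) / 2) := by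
  classical
  obtain ⟨n, ρ, rfl⟩ := hχ
  let A : G →* Matrix (Fin n) (Fin n) ℂ :=
    { toFun := fun g => LinearMap.toMatrix' (ρ g)
      map_one' := by rw [map_one, Module.End.one_eq_id, LinearMap.toMatrix'_id]
      map_mul' := fun g h => by rw [map_mul, LinearMap.toMatrix'_mul] }
  have htr : ∀ g, (A g).trace = ρ.character g := fun g => by
    rw [← Matrix.trace_toLin'_eq]
    simp [A, Representation.character]
  let T : G →* Matrix (Fin n × Fin n) (Fin n × Fin n) ℂ :=
    { toFun := fun g => A g ⊗ₖ A g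
      map_one' := by rw [map_one, Matrix.one_kronecker_one]
      map_mul' := fun g h => by rw [map_mul, Matrix.mul_kronecker_mul] }
  let S : Matrix (Fin n × Fin n) (Fin n × Fin n) ℂ :=
    Matrix.of fun a b => if b = a.swap then 1 else 0
  have hmulS : ∀ (M : Matrix (Fin n × Fin n) (Fin n × Fin n) ℂ) a b,
      (M * S) a b = M a b.swap := by
    intro M a b
    rw [Matrix.mul_apply, Finset.sum_eq_single b.swap]
    · simp [S]
    · intro c _ hc
      have : b ≠ c.swap := fun h => hc (by rw [h, Prod.swap_swap])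
      simp [S, this]
    · simp
  have hSmul : ∀ (M : Matrix (Fin n × Fin n) (Fin n × Fin n) ℂ) a b,
      (S * M) a b = M a.swap b := by
    intro M a b
    rw [Matrix.mul_apply, Finset.sum_eq_single a.swap]
    · simp [S]
    · intro c _ hc
      simp [S, hc]
    · simp
  have hSS : S * S = 1 := by
    ext a b
    rw [hmulS, Matrix.one_apply]
    simp [S]
    congr 1
    rw [eq_iff_iff]
    exact ⟨fun h => h.symm ▸ rfl, fun h => h ▸ rfl⟩
  have hcomm : ∀ g, S * T g = T g * S := by
    intro g
    ext a b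
    rw [hSmul, hmulS]
    simp [T, Matrix.kroneckerMap_apply, mul_comm]
  set E : Matrix (Fin n × Fin n) (Fin n × Fin n) ℂ := (2 : ℂ)⁻¹ • (1 - S) with hE
  have hEE : E * E = E := by
    rw [hE, Matrix.smul_mul, Matrix.mul_smul, Matrix.sub_mul, Matrix.mul_sub, Matrix.mul_sub, hSS,
      Matrix.one_mul, Matrix.mul_one, Matrix.one_mul, smul_smul]
    rw [show (1 : Matrix (Fin n × Fin n) (Fin n × Fin n) ℂ) - S - (S - 1) = (2 : ℂ) • (1 - S) by
      rw [two_smul]; abel, smul_smul]
    norm_num
  have hTE : ∀ g, E * T g = T g * E := by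
    intro g
    rw [hE, Matrix.smul_mul, Matrix.mul_smul, Matrix.sub_mul, Matrix.mul_sub, hcomm, Matrix.one_mul,
      Matrix.mul_one]
  let τ : Representation ℂ G (Fin n × Fin n → ℂ) :=
    Matrix.toLinAlgEquiv'.toMonoidHom.comp T
  set P : Module.End ℂ (Fin n × Fin n → ℂ) := Matrix.toLinAlgEquiv' E with hP
  set W := LinearMap.range P with hW
  have hτP : ∀ g, P * τ g = τ g * P := fun g => by
    show Matrix.toLinAlgEquiv' E * Matrix.toLinAlgEquiv' (T g) = _
    rw [← map_mul, hTE, map_mul]
    rfl
  have hinv : ∀ g, ∀ x ∈ W, τ g x ∈ W := by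
    rintro g _ ⟨y, rfl⟩
    exact ⟨τ g y, LinearMap.congr_fun (hτP g) y⟩
  let σ : Representation ℂ G W :=
    { toFun := fun g => (τ g).restrict (hinv g)
      map_one' := by ext x; simp [LinearMap.restrict_apply]
      map_mul' := fun g h => by ext x; simp [LinearMap.restrict_apply] }
  have hσ : σ.character = fun g => (ρ.character g ^ 2 - ρ.character (g ^ 2)) / 2 := by
    funext g
    have hmem : ∀ x, (τ g * P) x ∈ W := fun x => hinv g _ ⟨x, rfl⟩
    have h1 := LinearMap.trace_restrict_eq_of_forall_mem W (τ g * P) hmem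
    have h2 : (τ g * P).restrict (fun x _ => hmem x) = (τ g).restrict (hinv g) := by
      ext ⟨x, y, rfl⟩ : 1
      refine Subtype.ext ?_
      show τ g (P (P y)) = τ g (P y)
      rw [show P (P y) = (P * P) y from rfl, hP, ← map_mul, hEE]
    rw [h2] at h1
    show LinearMap.trace ℂ W ((τ g).restrict (hinv g)) = _
    rw [h1, show τ g * P = Matrix.toLin' (T g * E) from (map_mul Matrix.toLinAlgEquiv' _ _).symm,
      Matrix.trace_toLin'_eq, hE, Matrix.mul_smul, Matrix.trace_smul, Matrix.mul_sub,
      Matrix.trace_sub, Matrix.mul_one, smul_eq_mul]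
    have h3 : (T g).trace = ρ.character g ^ 2 := by
      simp [T, Matrix.trace_kronecker, htr, sq]
    have h4 : (T g * S).trace = ρ.character (g ^ 2) := by
      rw [← htr, sq, map_mul]
      simp only [Matrix.trace, Matrix.diag, hmulS, Fintype.sum_prod_type, T, MonoidHom.coe_mk,
        OneHom.coe_mk, Prod.swap, Matrix.kroneckerMap_apply, Matrix.mul_apply]
    rw [h3, h4]
    ring
  exact hσ ▸ CharCore.isCharacter_character σ

end Cfsg.Agent.SmallGroups.DegTwo
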