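import Cfsg.Agent.Lib.SmallGroups.DegTwo.Reduce
import Cfsg.Agent.Lib.SmallGroups.DegTwo.AltSquare
import Cfsg.Agent.Lib.CharClifford.Galois
import Cfsg.Agent.OddChar.Twist
import Mathlib.LinearAlgebra.Determinant
import Mathlib.GroupTheory.Abelianization.Defs

/-!
# Faithful characters of degree `p - 2`: the elements of odd order

In the perfect case the alternating square of the character and a Galois conjugate of it lie in
one block; comparing them gives `χ (g) ^ 2 = (p - 2) χ (g ^ 2)` for `g` of odd order prime to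
`p`, which bounds the odd part of the order.
-/

set_option linter.unusedSectionVars false
set_option linter.style.haveILetI false
set_option autoImplicit false

open Cfsg
open scoped ComplexConjugate

namespace Cfsg.Agent.SmallGroups.DegTwo

open BlocksCore BlocksDefect SmallGroups.SelfCent CyclicTwist BlkChar.SmallDegree

variable {G : Type*} [Group G] [Fintype G] {p : ℕ} [Fact p.Prime]

/-- The twisting datum of the central character of an irreducible character, with its values. -/
theorem exists_central_twist' (s : Setup G p) (hK : s.K ≤ Subgroup.center G) (ψ : IrrCharacter G) :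
    ∃ t : Twist s, Nat.card t.auto = (Subgroup.centralizer ({s.z} : Set G)).relIndex
        (Subgroup.normalizer ((Subgroup.zpowers s.z : Subgroup G) : Set G)) ∧
      ∀ f : G → ℂ, (∀ x, ∀ w ∈ s.K, f (x * w) = cval ψ w * f x) →
        ∀ k : ZMod p, t.phi f k = f (s.zp k) := by
  classical
  set C := Subgroup.centralizer ({s.z} : Set G) with hC
  have hzC : ∀ k : ZMod p, s.zp k ∈ C := fun k =>
    Subgroup.mem_centralizer_singleton_iff.mpr (Commute.pow_left (Commute.refl s.z) k.val).eq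
  obtain ⟨m, hm0, hm1⟩ := Nat.chineseRemainder s.coprime_card 0 1
  have hmp : (m : ZMod p) = 0 := (ZMod.natCast_eq_zero_iff _ _).mpr (Nat.modEq_zero_iff_dvd.mp hm0)
  have hzm : ∀ k : ZMod p, s.zp k ^ m = 1 := fun k => by
    rw [s.zp_pow, hmp, mul_zero, s.zp_zero]
  have hwm : ∀ w ∈ s.K, w ^ m = w := fun w hw => by
    conv_rhs => rw [← pow_one w]
    rw [pow_eq_pow_iff_modEq]
    exact hm1.of_dvd (Subgroup.orderOf_dvd_natCard _ hw)
  have hsplit : ∀ (k : ZMod p) (w : G), w ∈ s.K → (s.zp k * w) ^ m = w := fun k w hw => by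
    rw [(s.comm_zp k hw).mul_pow, hzm, one_mul, hwm w hw]
  have hcen : ∀ c ∈ C, c ^ m ∈ Subgroup.center G := fun c hc => by
    obtain ⟨k, w, hw, rfl⟩ := s.exists_of_mem_cent hc
    rw [hsplit k w hw]
    exact hK hw
  have hcomm : ∀ c ∈ C, ∀ d ∈ C, Commute c d := fun c hc d hd => by
    obtain ⟨k, w, hw, rfl⟩ := s.exists_of_mem_cent hc
    obtain ⟨j, v, hv, rfl⟩ := s.exists_of_mem_cent hd
    exact ((Commute.pow_pow (Commute.refl s.z) k.val j.val).mul_left
      (Subgroup.mem_center_iff.mp (hK hw) _).symm).mul_right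
      (Subgroup.mem_center_iff.mp (hK hv) _)
  let l : C →* ℂ :=
    { toFun := fun c => cval ψ ((c : G) ^ m)
      map_one' := by simp [cval_one]
      map_mul' := fun c d => by
        rw [Subgroup.coe_mul, (hcomm _ c.2 _ d.2).mul_pow, cval_mul ψ (hcen _ d.2), mul_comm] }
  let θ : IrrCharacter C := ⟨_, CharCore.isIrrCharacter_hom l.toHomUnits⟩
  have hθv : ∀ c : C, (θ : C → ℂ) c = cval ψ ((c : G) ^ m) := fun c => rfl
  let t : Twist s :=
    { C := C
      hC := rfl
      θ := θ
      hθ := fun k c c' h => by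
        rw [hθv, hθv, h, (hcomm _ (hzC k) _ c.2).mul_pow, hzm, one_mul]
      T := Subgroup.normalizer ((Subgroup.zpowers s.z : Subgroup G) : Set G)
      hT := fun g => ⟨fun hg => ⟨hg, fun c c' h => by
        rw [hθv, hθv, h, conj_pow, Subgroup.mem_center_iff.mp (hcen _ c.2) g,
          mul_inv_cancel_right]⟩, fun h => h.1⟩ }
  refine ⟨t, t.relIndex_eq.symm, fun f hf k => ?_⟩
  have hterm : ∀ w ∈ s.kset, f (s.zp k * w) * conj (t.th w) = f (s.zp k) := by
    intro w hw
    have hw' := s.mem_kset.mp hw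
    have hth : t.th w = cval ψ w := by
      rw [show t.th w = (θ : C → ℂ) ⟨w, t.K_le hw'⟩ from t.th_coe ⟨w, t.K_le hw'⟩, hθv]
      show cval ψ (w ^ m) = _
      rw [hwm w hw']
    have hn : cval ψ w * conj (cval ψ w) = 1 := by
      have h1 : ‖(θ : C → ℂ) ⟨w, t.K_le hw'⟩‖ = 1 :=
        CharCore.norm_hom_apply l.toHomUnits ⟨w, t.K_le hw'⟩
      rw [← hth, show t.th w = (θ : C → ℂ) ⟨w, t.K_le hw'⟩ from t.th_coe ⟨w, t.K_le hw'⟩,
        Complex.mul_conj, Complex.normSq_eq_norm_sq, h1]
      simp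
    rw [hf _ w hw', hth, mul_comm (cval ψ w), mul_assoc, hn, mul_one]
  rw [Twist.phi, Finset.sum_congr rfl hterm, Finset.sum_const, nsmul_eq_mul,
    inv_mul_cancel_left₀ s.card_kset_ne_zero]

/-- Central elements and the absolute value. -/
theorem norm_cval (χ : IrrCharacter G) {c : G} (hc : c ∈ Subgroup.center G) :
    ‖cval χ c‖ = 1 := by
  have h1 : cval χ c ^ orderOf c = 1 := by
    rw [← cval_pow χ hc, pow_orderOf_eq_one, cval_one]
  exact Complex.norm_eq_one_of_pow_eq_one h1 (orderOf_pos c).ne'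

namespace Data

variable (D : Data G p)

include D

theorem odd_deg : Odd (charDegree (D.χ : G → ℂ)) := by
  have hp5 := D.hp5
  obtain ⟨k, hk⟩ := (Fact.out : p.Prime).odd_of_ne_two (by omega)
  exact ⟨k - 1, by have := D.hdeg; omega⟩

theorem norm_apply_center {c : G} (hc : c ∈ Subgroup.center G) :
    ‖(D.χ : G → ℂ) c‖ = (charDegree (D.χ : G → ℂ) : ℝ) := by
  rw [← one_mul c, apply_mul_of_center D.χ hc, norm_mul, norm_cval D.χ hc, one_mul, irr_one_eq,
    Complex.norm_natCast]

variable (hperf : commutator G = ⊤)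

include hperf

/-- In a perfect group the central elements have order dividing the degree. -/
theorem pow_eq_one_of_mem_center {c : G} (hc : c ∈ Subgroup.center G) :
    c ^ charDegree (D.χ : G → ℂ) = 1 := by
  classical
  obtain ⟨n, ρ, hρ, hρχ⟩ := D.χ.2
  have hn : charDegree (D.χ : G → ℂ) = n := by
    rw [charDegree, ← hρχ, ρ.char_one, Module.finrank_fin_fun, Complex.natCast_re,
      Nat.floor_natCast]
  haveI := hρ
  obtain ⟨a, ha⟩ := CharClifford.exists_scalar_of_mem_center ρ hc
  let δ : G →* ℂ := LinearMap.det.comp ρ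
  have hδ : δ.toHomUnits c = 1 := by
    have h := Abelianization.commutator_subset_ker δ.toHomUnits
    exact MonoidHom.mem_ker.mp (h (hperf ▸ Subgroup.mem_top c))
  have h1 : a ^ n = 1 := by
    have h2 : δ c = 1 := by rw [← δ.coe_toHomUnits, hδ, Units.val_one]
    rw [← h2]
    show _ = LinearMap.det (ρ c)
    rw [ha, LinearMap.det_smul, map_one, mul_one, Module.finrank_fin_fun]
  refine D.hf _ ?_
  rw [hn, ← hρχ]
  show LinearMap.trace ℂ _ (ρ (c ^ n)) = LinearMap.trace ℂ _ (ρ 1)
  rw [map_pow ρ, ha, smul_pow, one_pow, h1, one_smul, map_one ρ]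

/-- The relation at elements of odd order prime to `p`. -/
theorem sq_apply {g : G} (hg : Odd (orderOf g)) (hgp : ¬ p ∣ orderOf g) :
    (D.χ : G → ℂ) g ^ 2 = (charDegree (D.χ : G → ℂ) : ℂ) * (D.χ : G → ℂ) (g ^ 2) := by
  classical
  have hp : p.Prime := Fact.out
  have hp5 := D.hp5
  have hp0 : (p : ℂ) ≠ 0 := Nat.cast_ne_zero.mpr hp.ne_zero
  set n := charDegree (D.χ : G → ℂ) with hn
  have hnp : n + 2 = p := D.hdeg
  -- the exponent
  obtain ⟨a, m, hm, hN⟩ := Nat.exists_eq_two_pow_mul_odd (Nat.card_pos (α := G)).ne'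
  obtain ⟨j, hj1, hj2⟩ := Nat.chineseRemainder
    (Nat.Coprime.pow_left a (Nat.coprime_two_left.mpr hm)) 1 2
  have hjN : j.Coprime (Nat.card G) := by
    rw [hN]
    refine Nat.Coprime.mul_right ?_ ?_
    · rcases Nat.eq_zero_or_pos a with ha | ha
      · simp [ha]
      · refine Nat.Coprime.pow_right a (Nat.coprime_two_right.mpr ?_)
        have h := hj1.of_dvd (dvd_pow_self 2 ha.ne')
        rw [Nat.odd_iff]
        exact h
    · exact (hj2.gcd_eq).trans (Nat.coprime_two_left.mpr hm)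
  have hjodd : ∀ x : G, Odd (orderOf x) → x ^ j = x ^ 2 := by
    intro x hx
    rw [pow_eq_pow_iff_modEq]
    refine hj2.of_dvd ?_
    have h := orderOf_dvd_natCard x
    rw [hN] at h
    exact ((Nat.coprime_two_right.mpr hx).pow_right a).dvd_of_dvd_mul_left h
  have hzodd : Odd (orderOf D.s.z) := by
    rw [D.s.orderOf_z]; exact hp.odd_of_ne_two (by omega)
  have hcodd : ∀ c ∈ Subgroup.center G, Odd (orderOf c) := fun c hc =>
    D.odd_deg.of_dvd_nat (orderOf_dvd_of_pow_eq_one (D.pow_eq_one_of_mem_center hperf hc))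
  -- the Galois conjugate
  obtain ⟨σ, hσ⟩ := CharClifford.exists_ringHom_map_isCharacter (G := G) hjN
  let ψ : IrrCharacter G := ⟨fun x => (D.χ : G → ℂ) (x ^ j), by
    have h := OddChar.isIrrCharacter_map σ D.χ.2
    rwa [show (fun x => σ ((D.χ : G → ℂ) x)) = fun x => (D.χ : G → ℂ) (x ^ j) from
      funext fun x => hσ _ (CharCore.irr_isCharacter D.χ) x] at h⟩
  have hψv : ∀ x, (ψ : G → ℂ) x = (D.χ : G → ℂ) (x ^ j) := fun x => rfl
  have hψ1 : (ψ : G → ℂ) 1 = (n : ℂ) := by rw [hψv, one_pow, irr_one_eq]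
  have hψd : charDegree (ψ : G → ℂ) = n := by
    rw [charDegree, hψ1, Complex.natCast_re, Nat.floor_natCast]
  have hψz : ∀ k : ZMod p, (ψ : G → ℂ) (D.s.zp k) = (D.χ : G → ℂ) (D.s.zp (k * 2)) := by
    intro k
    rw [hψv, Setup.zp, ← pow_mul, mul_comm, pow_mul, hjodd _ hzodd, ← pow_mul, mul_comm,
      pow_mul, show D.s.z ^ k.val = D.s.zp k from rfl, D.s.zp_pow]
    norm_num
  have hψc : ∀ c ∈ Subgroup.center G, cval ψ c = cval D.χ c ^ 2 := by
    intro c hc
    rw [← cval_pow D.χ hc, ← hjodd c (hcodd c hc), cval, hψ1, hψv, cval, irr_one_eq]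
  -- the twist
  obtain ⟨t, hauto, hphi⟩ := exists_central_twist' D.s D.K_le ψ
  rw [D.relIndex_cent] at hauto
  haveI := Fintype.ofFinite t.Orb
  have hautoeq : ∀ x : (ZMod p)ˣ, x ∈ t.auto ↔ x = 1 ∨ x = -1 := by
    have hsq : ∀ x ∈ t.auto, x = 1 ∨ x = -1 := by
      intro x hx
      have h : (⟨x, hx⟩ : t.auto) ^ 2 = 1 := by rw [← hauto]; exact pow_card_eq_one'
      have h' : (x : ZMod p) * (x : ZMod p) = 1 := by
        rw [← Units.val_mul, ← sq, show x ^ 2 = 1 from congrArg Subtype.val h, Units.val_one]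
      rcases mul_self_eq_one_iff.mp h' with h1 | h1
      · exact Or.inl (Units.ext h1)
      · exact Or.inr (Units.ext (by rw [h1, Units.val_neg, Units.val_one]))
    intro x
    refine ⟨hsq x, ?_⟩
    rintro (rfl | rfl)
    · exact one_mem _
    · haveI : Nontrivial t.auto := Finite.one_lt_card_iff_nontrivial.mp (by omega)
      obtain ⟨⟨y, hy⟩, hy1⟩ := exists_ne (1 : t.auto)
      rcases hsq y hy with rfl | rfl
      · exact absurd rfl hy1
      · exact hy
  have hphiψ : ∀ k, t.phi (ψ : G → ℂ) k = (ψ : G → ℂ) (D.s.zp k) :=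
    hphi _ fun x w hw => apply_mul_of_center ψ (D.K_le hw) x
  -- the block
  obtain ⟨M, hM⟩ := Blocks88.exists_isPModular hp
  haveI := BlocksCore.isPrime hM
  have hidx := D.hidx
  have hPp : IsPGroup p (Subgroup.zpowers D.s.z) :=
    IsPGroup.of_card (n := 1) (by rw [Nat.card_zpowers, D.s.orderOf_z, pow_one])
  have hPC : Subgroup.zpowers D.s.z ≤ t.C := Subgroup.zpowers_le.mpr t.z_mem
  have hCC : Subgroup.centralizer ((Subgroup.zpowers D.s.z : Subgroup G) : Set G) ≤ t.C := by
    rw [BlocksCore.centralizer_zpowers, t.hC]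
  obtain ⟨B, hind⟩ := inducedBlockDefined hM hPp hPC hCC t.C_le_normalizer t.isPBlock_blk
  have hψchar := CharCore.irr_isCharacter ψ
  choose mu hmu using fun r => t.mult_eq_natCast hψchar r
  have hψB : ψ ∈ B := by
    by_contra hψB
    have h0 : ∀ k : ZMod p, k ≠ 0 → t.phi (ψ : G → ℂ) k = 0 := fun k hk =>
      t.phi_of_notMem hM hind hk hψB
    have h : (n : ℂ) = (p : ℂ) * (mu 0 : ℕ) := by
      rw [← hmu 0, Twist.mult, mul_inv_cancel_left₀ hp0, Finset.sum_eq_single (0 : ZMod p)
        (fun k _ hk => by rw [h0 k hk, zero_mul]) (by simp), hphiψ, D.s.zp_zero, hψ1]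
      simp
    have h' : n = p * mu 0 := by exact_mod_cast h
    have := Nat.le_of_dvd (hn ▸ charDegree_pos D.χ) (Dvd.intro _ h'.symm)
    omega
  have hBP := isDefectGroup_zpowers hM D.s hidx hind.2.1
    ((blockDefect_of_not_dvd hψB (by
      rw [hψd]; intro h; have := Nat.le_of_dvd (hn ▸ charDegree_pos D.χ) h; omega)).trans
      (factorization_eq_one D.s hidx))
  obtain ⟨f, c, ε, hε, hfi, hfB, hvf, hcx, -⟩ := t.exists_shape hM hind hBP hidx
  have hvec : ∀ r, (mu r : ℤ) = mu 0 + t.vec ψ r := fun r => by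
    have h : t.vec ψ r = (mu r : ℤ) - mu 0 := Int.cast_injective (α := ℂ) (by
      rw [t.vec_spec, Twist.vecC_eq_sub, hmu r, hmu 0]; push_cast; ring)
    omega
  have hdegψ : (n : ℤ) = p * mu 0 + (Nat.card t.auto : ℤ) * ∑ o, t.vecO ψ o := by
    have h : (n : ℂ) = ((∑ r, (mu r : ℤ) : ℤ) : ℂ) := by
      rw [← hψ1, ← D.s.zp_zero, ← hphiψ, phi_eq_sum_mult t]
      push_cast
      exact Finset.sum_congr rfl fun r _ => by simp [hmu r]
    have h2 := sum_vec D.s t ψ id rfl
    simp only [id_eq] at h2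
    rw [← h2]
    have h3 : (n : ℤ) = ∑ r, (mu r : ℤ) := by exact_mod_cast h
    rw [h3, Finset.sum_congr rfl fun r _ => hvec r, Finset.sum_add_distrib, Finset.sum_const,
      Finset.card_univ, ZMod.card, nsmul_eq_mul]
  obtain ⟨i₀, hi₀⟩ : ∃ i, f i = ψ := by
    by_contra hY
    push Not at hY
    obtain ⟨hc1, hc2⟩ := hcx ψ hψB hY
    rw [Finset.sum_congr rfl fun o _ => hc2 o, Finset.sum_const, Finset.card_univ,
      nsmul_eq_mul, ← mul_assoc, ← Nat.card_eq_fintype_card,
      show ((Nat.card t.auto : ℤ) * (Nat.card t.Orb : ℤ)) = (p : ℤ) - 1 by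
        rw [← Nat.cast_mul, mul_comm (Nat.card t.auto), t.card_orb_mul, Nat.cast_sub hp.one_le]
        norm_num] at hdegψ
    have hn' : (n : ℤ) = (p : ℤ) - 2 := by omega
    rcases hc1 with h | h <;> rw [h] at hdegψ <;> rw [hn'] at hdegψ <;> push_cast at hdegψ
    · have h1 : (p : ℤ) * (mu 0 : ℤ) = -1 := by linarith
      have : (0 : ℤ) ≤ p * mu 0 := by positivity
      omega
    · rcases Nat.lt_or_ge (mu 0) 2 with h2 | h2
      · interval_cases (mu 0) <;> omega
      · have : (p : ℤ) * 2 ≤ p * mu 0 := by gcongr; omega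
        omega
  obtain ⟨r₀, hr₀⟩ := QuotientGroup.mk_surjective i₀
  obtain ⟨hε1, hmu0⟩ : ε = -1 ∧ mu 0 = 1 := by
    rw [← hi₀, Finset.sum_congr rfl fun o _ => hvf o i₀, Finset.sum_ite_eq',
      if_pos (Finset.mem_univ _), hauto] at hdegψ
    rcases hε with h | h <;> subst h <;> push_cast at hdegψ
    · exfalso
      rcases Nat.lt_or_ge (mu 0) 1 with h2 | h2
      · interval_cases (mu 0); omega
      · have : (p : ℤ) * 1 ≤ p * mu 0 := by gcongr; omega
        omega
    · refine ⟨rfl, ?_⟩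
      rcases Nat.lt_or_ge (mu 0) 2 with h2 | h2
      · interval_cases (mu 0)
        · omega
        · rfl
      · have : (p : ℤ) * 2 ≤ p * mu 0 := by gcongr; omega
        omega
  have horb : ∀ r : (ZMod p)ˣ, (r : t.Orb) = i₀ ↔ r = r₀ ∨ r = -r₀ := by
    intro r
    rw [← hr₀, eq_comm, QuotientGroup.eq, hautoeq]
    constructor
    · rintro (h | h)
      · exact Or.inl (inv_mul_eq_one.mp h).symm
      · exact Or.inr (by rw [eq_mul_of_inv_mul_eq h, mul_neg, mul_one])
    · rintro (rfl | rfl)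
      · exact Or.inl (inv_mul_cancel _)
      · exact Or.inr (by rw [mul_neg, inv_mul_cancel])
  set ω : ZMod p → ℂ := fun x => (ZMod.stdAddChar x : ℂ) with hω
  have hωadd : ∀ x y, ω (x + y) = ω x * ω y := fun x y => AddChar.map_add_eq_mul _ x y
  have hω0 : ω 0 = 1 := AddChar.map_zero_eq_one _
  have hr0 : ((r₀ : (ZMod p)ˣ) : ZMod p) ≠ 0 := r₀.ne_zero
  have h2p : (2 : ZMod p) ≠ 0 := by
    intro h
    have h1 : ((2 : ℕ) : ZMod p) = 0 := by exact_mod_cast h
    have := Nat.le_of_dvd (by norm_num) ((ZMod.natCast_eq_zero_iff _ _).mp h1)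
    omega
  have hvψ : ∀ r : (ZMod p)ˣ, t.vec ψ (r : ZMod p) =
      -(if (r : ZMod p) = r₀ then 1 else 0) - (if (r : ZMod p) = -(r₀ : ZMod p) then 1 else 0) := by
    intro r
    rw [t.vec_eq_vecO, ← hi₀, hvf, hε1]
    have hne : (r₀ : ZMod p) ≠ -(r₀ : ZMod p) := fun h =>
      mul_ne_zero h2p hr0 (by linear_combination h)
    by_cases h : (r : t.Orb) = i₀
    · rw [if_pos h]
      rcases (horb r).mp h with rfl | rfl
      · rw [if_pos rfl, if_neg hne]; norm_num
      · rw [Units.val_neg, if_neg hne.symm, if_pos rfl]; norm_num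
    · rw [if_neg h, if_neg fun e => h ((horb r).mpr (Or.inl (Units.ext e))),
        if_neg fun e => h ((horb r).mpr (Or.inr (Units.ext (by rw [e, Units.val_neg]))))]
      norm_num
  -- the values on `⟨z⟩`
  have hψval : ∀ k : ZMod p, k ≠ 0 →
      (ψ : G → ℂ) (D.s.zp k) = -(ω ((r₀ : ZMod p) * k) + ω (-((r₀ : ZMod p) * k))) := by
    intro k hk
    rw [← hphiψ, t.phi_eq_sum_vec _ hk, Finset.sum_congr rfl (g := fun r =>
      -(if r = (r₀ : ZMod p) then ω (r * k) else 0) -
        (if r = -(r₀ : ZMod p) then ω (r * k) else 0)) fun r hr => ?_,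
      Finset.sum_sub_distrib, Finset.sum_neg_distrib, Finset.sum_ite_eq', Finset.sum_ite_eq',
      if_pos (Finset.mem_erase.mpr ⟨hr0, Finset.mem_univ _⟩),
      if_pos (Finset.mem_erase.mpr ⟨neg_ne_zero.mpr hr0, Finset.mem_univ _⟩), neg_mul]
    · ring
    · have h := hvψ (Units.mk0 r (Finset.ne_of_mem_erase hr))
      rw [Units.val_mk0] at h
      rw [h, hω]
      push_cast
      split_ifs <;> ring
  -- the alternating square
  set X : G → ℂ := fun x => ((D.χ : G → ℂ) x ^ 2 - (D.χ : G → ℂ) (x ^ 2)) / 2 with hX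
  have hXc : IsCharacter G X := isCharacter_altSquare (CharCore.irr_isCharacter D.χ)
  have hXK : ∀ x, ∀ w ∈ D.s.K, X (x * w) = cval ψ w * X x := by
    intro x w hw
    have hwc := D.K_le hw
    have h2 : (x * w) ^ 2 = x ^ 2 * w ^ 2 :=
      (show Commute x w from Subgroup.mem_center_iff.mp hwc x).mul_pow 2
    simp only [hX]
    rw [h2, apply_mul_of_center D.χ hwc, apply_mul_of_center D.χ (pow_mem hwc 2),
      cval_pow D.χ hwc, hψc w hwc]
    ring
  have hXval : ∀ k : ZMod p, k ≠ 0 →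
      X (D.s.zp k) = ω ((r₀ : ZMod p) * k) + ω (-((r₀ : ZMod p) * k)) + 1 := by
    intro k hk
    set x := (r₀ : ZMod p) * (k * (2 : ZMod p)⁻¹) with hx
    have h1 : (D.χ : G → ℂ) (D.s.zp k) = -(ω x + ω (-x)) := by
      rw [hx, ← hψval _ (mul_ne_zero hk (inv_ne_zero h2p)), hψz, inv_mul_cancel_right₀ h2p]
    have h2 : (D.χ : G → ℂ) (D.s.zp k ^ 2) =
        -(ω ((r₀ : ZMod p) * k) + ω (-((r₀ : ZMod p) * k))) := by
      rw [← hψval k hk, hψz, D.s.zp_pow]
      norm_num
    have h3 : (r₀ : ZMod p) * k = x + x := by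
      rw [hx]
      field_simp
      ring
    have h4 : ω x * ω (-x) = 1 := by rw [← hωadd, add_neg_cancel, hω0]
    simp only [hX]
    rw [h1, h2, h3, hωadd, neg_add x x, hωadd]
    linear_combination (1 : ℂ) * h4
  have hXphi : ∀ k, t.phi X k = X (D.s.zp k) := hphi X hXK
  have hXvec : ∀ r : (ZMod p)ˣ, t.vecC X (r : ZMod p) =
      (if (r : ZMod p) = r₀ then 1 else 0) + (if (r : ZMod p) = -(r₀ : ZMod p) then 1 else 0) - 1 := by
    intro r
    rw [Twist.vecC, vecOf]
    have hterm : ∀ k : ZMod p, t.phi X k * ((ZMod.stdAddChar (-((r : ZMod p) * k)) : ℂ) - 1) =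
        ω (k * ((r₀ : ZMod p) - r)) + ω (k * (-(r₀ : ZMod p) - r)) + ω (k * (-(r : ZMod p))) -
          ω (k * (r₀ : ZMod p)) - ω (k * -(r₀ : ZMod p)) - 1 := by
      intro k
      by_cases hk : k = 0
      · subst hk
        simp [hω0, hω]
      · rw [hXphi, hXval k hk, show k * ((r₀ : ZMod p) - r) = (r₀ : ZMod p) * k + -((r : ZMod p) * k) by
          ring, show k * (-(r₀ : ZMod p) - r) = -((r₀ : ZMod p) * k) + -((r : ZMod p) * k) by ring,
          show k * (-(r : ZMod p)) = -((r : ZMod p) * k) by ring,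
          show k * (r₀ : ZMod p) = (r₀ : ZMod p) * k by ring,
          show k * -(r₀ : ZMod p) = -((r₀ : ZMod p) * k) by ring, hωadd, hωadd]
        simp only [hω]
        ring
    rw [Finset.sum_congr rfl fun k _ => hterm k, Finset.sum_sub_distrib, Finset.sum_sub_distrib,
      Finset.sum_sub_distrib, Finset.sum_add_distrib, Finset.sum_add_distrib]
    simp only [hω, sum_stdAddChar, Finset.sum_const, Finset.card_univ, ZMod.card, nsmul_eq_mul,
      mul_one, neg_eq_zero, sub_eq_zero, hr0, r.ne_zero, if_false]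
    simp only [eq_comm (a := (r₀ : ZMod p)), eq_comm (a := -(r₀ : ZMod p))]
    split_ifs <;> field_simp <;> ring
  -- its constituents
  choose nX hnX using fun φ : IrrCharacter G =>
    CharCore.IsCharacter.exists_classInner_eq_natCast hXc (CharCore.irr_isCharacter φ)
  have hdec : ∀ x, X x = ∑ φ : IrrCharacter G, (nX φ : ℂ) * (φ : G → ℂ) x := fun x => by
    conv_lhs => rw [CharCore.IsCharacter.eq_sum_classInner hXc]
    simp [hnX]
  have hvecsum : ∀ r : ZMod p, t.vecC X r = ((∑ φ : IrrCharacter G, (nX φ : ℤ) * t.vec φ r : ℤ) : ℂ) := by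
    intro r
    push_cast
    rw [Finset.sum_congr rfl fun φ _ => by rw [t.vec_spec]]
    simp only [Twist.vecC, vecOf, Twist.phi, hdec, Finset.sum_mul, Finset.mul_sum]
    rw [Finset.sum_comm (γ := IrrCharacter G)]
    refine Finset.sum_congr rfl fun k _ => ?_
    rw [Finset.sum_comm (γ := IrrCharacter G)]
    exact Finset.sum_congr rfl fun w _ => Finset.sum_congr rfl fun φ _ => by ring
  set Y := Finset.univ.image f with hY
  set d : ℤ := ∑ φ ∈ Finset.univ.filter (· ∈ B) \ Y, (nX φ : ℤ) * c φ with hd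
  have hnf : ∀ o, (nX (f o) : ℤ) = d + 1 - (if o = i₀ then 1 else 0) := by
    intro o
    obtain ⟨r, rfl⟩ := QuotientGroup.mk_surjective o
    have h1 : (∑ φ : IrrCharacter G, (nX φ : ℤ) * t.vec φ (r : ZMod p) : ℤ) = d - (nX (f r) : ℤ) := by
      have hYB : Y ⊆ Finset.univ.filter (· ∈ B) := by
        intro x hx
        obtain ⟨i, -, rfl⟩ := Finset.mem_image.mp hx
        simpa using hfB i
      rw [← Finset.sum_subset (Finset.subset_univ (Finset.univ.filter (· ∈ B))) (fun φ _ hφ => by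
          rw [t.vec_eq_vecO, t.vecO_of_notMem hM hind (fun h => hφ (by simpa using h)), mul_zero]),
        ← Finset.sum_sdiff hYB, hY, Finset.sum_image (fun a _ b _ h => hfi h),
        Finset.sum_eq_single (r : t.Orb)
          (fun i _ hi => by rw [t.vec_eq_vecO, hvf, if_neg (Ne.symm hi), mul_zero]) (by simp),
        t.vec_eq_vecO, hvf, if_pos rfl, hε1, hd, hY, mul_neg_one, ← sub_eq_add_neg]
      congr 1
      refine Finset.sum_congr rfl fun φ hφ => ?_
      obtain ⟨h1, h2⟩ := Finset.mem_sdiff.mp hφ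
      rw [t.vec_eq_vecO, (hcx φ (by simpa using h1) fun i hi =>
        h2 (hi ▸ Finset.mem_image_of_mem f (Finset.mem_univ i))).2]
    have h2 : d - (nX (f r) : ℤ) = (if (r : t.Orb) = i₀ then 1 else 0) - 1 := by
      apply Int.cast_injective (α := ℂ)
      rw [← h1, ← hvecsum, hXvec]
      have hne : (r₀ : ZMod p) ≠ -(r₀ : ZMod p) := fun h =>
        mul_ne_zero h2p hr0 (by linear_combination h)
      by_cases h : (r : t.Orb) = i₀
      · rw [if_pos h]
        rcases (horb r).mp h with rfl | rfl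
        · rw [if_pos rfl, if_neg hne]; norm_num
        · rw [Units.val_neg, if_neg hne.symm, if_pos rfl]; norm_num
      · rw [if_neg h, if_neg fun e => h ((horb r).mpr (Or.inl (Units.ext e))),
          if_neg fun e => h ((horb r).mpr (Or.inr (Units.ext (by rw [e, Units.val_neg]))))]
        norm_num
    omega
  have hd0 : 0 ≤ d := by
    have := hnf i₀
    rw [if_pos rfl] at this
    omega
  have hfreg : ∀ o, ∀ x : G, ¬ p ∣ orderOf x → (f o : G → ℂ) x = (ψ : G → ℂ) x := by
    intro o x hx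
    have h1 := t.sum_regular_eq_zero hM hind hBP hidx hfi hfB hvf hcx hx o
    have h2 := t.sum_regular_eq_zero hM hind hBP hidx hfi hfB hvf hcx hx i₀
    rw [hε1] at h1 h2
    rw [← hi₀]
    push_cast at h1 h2
    linear_combination h2 - h1
  have hcard : (Fintype.card t.Orb : ℤ) * 2 = (n : ℤ) + 1 := by
    have h := t.card_orb_mul
    rw [hauto, Nat.card_eq_fintype_card] at h
    omega
  have hone : ¬ p ∣ orderOf (1 : G) := by rw [orderOf_one]; exact hp.not_dvd_one
  have hfdeg : ∀ o, (charDegree (f o : G → ℂ) : ℤ) = n := fun o => by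
    have h := hfreg o 1 hone
    rw [irr_one_eq, hψ1] at h
    exact_mod_cast h
  have hX1 : 2 * ∑ φ : IrrCharacter G, (nX φ : ℤ) * charDegree (φ : G → ℂ) =
      (n : ℤ) * n - n := by
    apply Int.cast_injective (α := ℂ)
    push_cast
    rw [Finset.sum_congr rfl fun φ _ => by rw [← irr_one_eq φ], ← hdec]
    simp only [hX, one_pow, irr_one_eq, ← hn]
    ring
  have hsumf : ∑ o, (nX (f o) : ℤ) * charDegree (f o : G → ℂ) =
      ((d + 1) * Fintype.card t.Orb - 1) * n := by
    rw [Finset.sum_congr rfl fun o _ => by rw [hnf o, hfdeg o], ← Finset.sum_mul,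
      Finset.sum_sub_distrib, Finset.sum_const, Finset.card_univ, Finset.sum_ite_eq',
      if_pos (Finset.mem_univ _), nsmul_eq_mul]
    ring
  have hsplit := Finset.sum_sdiff (Finset.subset_univ Y)
    (f := fun φ : IrrCharacter G => (nX φ : ℤ) * charDegree (φ : G → ℂ))
  rw [hY, Finset.sum_image (fun a _ b _ h => hfi h), hsumf] at hsplit
  rw [← hsplit] at hX1
  have hn0 : (0 : ℤ) < n := by exact_mod_cast hn ▸ charDegree_pos D.χ
  have hrest0 : 0 ≤ ∑ φ ∈ Finset.univ \ Finset.univ.image f,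
      (nX φ : ℤ) * charDegree (φ : G → ℂ) := Finset.sum_nonneg fun φ _ => by positivity
  have hd00 : d = 0 := by
    by_contra hd1
    have h : (1 : ℤ) ≤ d := by omega
    nlinarith [mul_le_mul_of_nonneg_right h (mul_nonneg (show (0 : ℤ) ≤ Fintype.card t.Orb by positivity) hn0.le)]
  rw [hd00, zero_add, one_mul] at hX1
  have hzero : ∑ φ ∈ Finset.univ \ Finset.univ.image f,
      (nX φ : ℤ) * charDegree (φ : G → ℂ) = 0 := by nlinarith
  have hXg : X g = ((Fintype.card t.Orb : ℂ) - 1) * (ψ : G → ℂ) g := by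
    rw [hdec, ← Finset.sum_sdiff (Finset.subset_univ (Finset.univ.image f)),
      Finset.sum_image (fun a _ b _ h => hfi h), Finset.sum_eq_zero, zero_add]
    · rw [Finset.sum_congr rfl (g := fun o => (1 - if o = i₀ then (1 : ℂ) else 0) * (ψ : G → ℂ) g)
        fun o _ => ?_, ← Finset.sum_mul, Finset.sum_sub_distrib, Finset.sum_ite_eq',
        if_pos (Finset.mem_univ _), Finset.sum_const, Finset.card_univ, nsmul_one]
      rw [hfreg o g hgp]
      congr 1
      have h := congrArg (fun x : ℤ => (x : ℂ)) (hnf o)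
      simp only [hd00, zero_add] at h
      rw [Int.cast_natCast] at h
      rw [h]
      split_ifs <;> norm_num
    · intro φ hφ
      have h := (Finset.sum_eq_zero_iff_of_nonneg fun φ _ => by positivity).mp hzero φ hφ
      rcases mul_eq_zero.mp h with h' | h'
      · have : nX φ = 0 := by exact_mod_cast h'
        rw [this, Nat.cast_zero, zero_mul]
      · exact absurd h' (by exact_mod_cast (charDegree_pos φ).ne')
  rw [hψv, hjodd g hg] at hXg
  simp only [hX] at hXg
  have hc : (Fintype.card t.Orb : ℂ) * 2 = (n : ℂ) + 1 := by exact_mod_cast hcard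
  linear_combination (2 : ℂ) * hXg + (D.χ : G → ℂ) (g ^ 2) * hc

/-- Elements of odd order prime to `p` outside the centre are zeros. -/
theorem apply_eq_zero {g : G} (hg : Odd (orderOf g)) (hgp : ¬ p ∣ orderOf g)
    (hgc : g ∉ Subgroup.center G) : (D.χ : G → ℂ) g = 0 := by
  classical
  set n := charDegree (D.χ : G → ℂ) with hn
  have hn0 : (0 : ℝ) < n := by exact_mod_cast charDegree_pos D.χ
  set x : ℕ → ℝ := fun i => ‖(D.χ : G → ℂ) (g ^ 2 ^ i)‖ / n with hx
  have hrec : ∀ i, x (i + 1) = x i ^ 2 := by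
    intro i
    have h2 : orderOf (g ^ 2 ^ i) = orderOf g :=
      Nat.Coprime.orderOf_pow ((Nat.coprime_two_right.mpr hg).pow_right i)
    have h := congrArg norm (D.sq_apply hperf (g := g ^ 2 ^ i) (h2 ▸ hg) (h2 ▸ hgp))
    rw [norm_pow, norm_mul, Complex.norm_natCast, ← pow_mul, ← pow_succ, ← hn] at h
    simp only [hx]
    rw [div_pow, h]
    field_simp
  have hiter : ∀ i, x i = x 0 ^ 2 ^ i := by
    intro i
    induction i with
    | zero => simp
    | succ i ih => rw [hrec, ih, ← pow_mul, ← pow_succ]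
  have hper : g ^ 2 ^ Nat.totient (orderOf g) = g := by
    conv_rhs => rw [← pow_one g]
    rw [pow_eq_pow_iff_modEq]
    exact Nat.ModEq.pow_totient (Nat.coprime_two_left.mpr hg)
  have h1 : x 0 ^ 2 ^ Nat.totient (orderOf g) = x 0 := by
    rw [← hiter]
    simp only [hx, hper, pow_zero, pow_one]
  have hx0 : x 0 = ‖(D.χ : G → ℂ) g‖ / n := by simp [hx]
  by_contra hne
  have hpos : 0 < x 0 := by
    rw [hx0]
    exact div_pos (norm_pos_iff.mpr hne) hn0
  have hk : 2 ≤ 2 ^ Nat.totient (orderOf g) :=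
    Nat.le_self_pow (Nat.totient_pos.mpr (orderOf_pos g)).ne' 2
  have hx1 : x 0 = 1 := by
    obtain ⟨k, hk'⟩ := Nat.exists_eq_add_of_le hk
    rw [hk', show 2 + k = (k + 1) + 1 by ring, pow_succ] at h1
    have h3 : x 0 ^ (k + 1) = 1 := mul_right_cancel₀ hpos.ne' (h1.trans (one_mul _).symm)
    exact (pow_eq_one_iff_of_nonneg hpos.le (by omega)).mp h3
  refine hgc (mem_center_of_norm_eq D.χ D.hf ?_)
  rw [hx0, div_eq_one_iff_eq hn0.ne'] at hx1
  exact hx1

/-- The odd part prime to `p` of the order modulo the centre divides the squared degree. -/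
theorem dvd_sq {d : ℕ} (hd : d ∣ (Subgroup.center G).index) (hdo : Odd d) (hdp : ¬ p ∣ d) :
    d ∣ charDegree (D.χ : G → ℂ) ^ 2 := by
  classical
  set n := charDegree (D.χ : G → ℂ) with hn
  have hn0 : n ≠ 0 := (charDegree_pos D.χ).ne'
  have hd0 : d ≠ 0 := fun h => by rw [h] at hdo; simp at hdo
  rw [← Nat.factorization_le_iff_dvd hd0 (pow_ne_zero 2 hn0)]
  intro r
  by_cases hr0 : d.factorization r = 0
  · rw [hr0]; exact Nat.zero_le _
  have hr : r.Prime := by
    by_contra h
    exact hr0 (Nat.factorization_eq_zero_of_not_prime d h)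
  have hrd : r ∣ d := Nat.dvd_of_factorization_pos hr0
  haveI := Fact.mk hr
  have hrodd : Odd r := hdo.of_dvd_nat hrd
  have hrp : r ≠ p := fun h => hdp (h ▸ hrd)
  obtain ⟨Q⟩ : Nonempty (Sylow r G) := inferInstance
  haveI := Fintype.ofFinite (Q : Subgroup G)
  have hQg : ∀ x : (Q : Subgroup G), Odd (orderOf (x : G)) ∧ ¬ p ∣ orderOf (x : G) := by
    intro x
    obtain ⟨k, hk⟩ := IsPGroup.iff_orderOf.mp Q.2 x
    rw [Subgroup.orderOf_coe, hk]
    refine ⟨hrodd.pow, fun h => hrp ?_⟩
    exact ((Nat.prime_dvd_prime_iff_eq (Fact.out : p.Prime) hr).mp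
      ((Fact.out : p.Prime).dvd_of_dvd_pow h)).symm
  set A := (Subgroup.center G).subgroupOf (Q : Subgroup G) with hA
  obtain ⟨k, hk⟩ := CharCore.IsCharacter.exists_classInner_eq_natCast
    (CharCore.isCharacter_restrict (CharCore.irr_isCharacter D.χ) (Q : Subgroup G))
    (CharCore.isCharacter_restrict (CharCore.irr_isCharacter D.χ) (Q : Subgroup G))
  rw [CharCore.classInner_def, inv_mul_eq_iff_eq_mul₀ (Nat.cast_ne_zero.mpr Nat.card_pos.ne'),
    Finset.sum_congr rfl (g := fun x : (Q : Subgroup G) => if x ∈ A then (n : ℂ) ^ 2 else 0)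
      fun x _ => ?_, ← Finset.sum_filter, Finset.sum_const, nsmul_eq_mul,
    show (Finset.univ.filter fun x : (Q : Subgroup G) => x ∈ A).card = Nat.card A by
      rw [← Nat.card_eq_finsetCard]; exact Nat.card_congr (Equiv.subtypeEquivRight (by simp))]
    at hk
  · have hk' : Nat.card A * n ^ 2 = Nat.card (Q : Subgroup G) * k := by exact_mod_cast hk
    have hAZ : Nat.card A ∣ Nat.card (Subgroup.center G) :=
      Subgroup.card_comap_dvd_of_injective _ _ (Q : Subgroup G).subtype_injective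
    have h1 : r ^ (Nat.card G).factorization r ∣ Nat.card (Subgroup.center G) * n ^ 2 := by
      rw [← Q.card_eq_multiplicity]
      exact (Dvd.intro k hk'.symm).trans (Nat.mul_dvd_mul_right hAZ _)
    rw [hr.pow_dvd_iff_le_factorization (mul_ne_zero Nat.card_pos.ne' (pow_ne_zero 2 hn0)),
      Nat.factorization_mul Nat.card_pos.ne' (pow_ne_zero 2 hn0), Finsupp.add_apply,
      ← Subgroup.card_mul_index (Subgroup.center G),
      Nat.factorization_mul Nat.card_pos.ne' Subgroup.index_ne_zero_of_finite,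
      Finsupp.add_apply] at h1
    have h2 : d.factorization r ≤ (Subgroup.center G).index.factorization r :=
      (Nat.factorization_le_iff_dvd hd0 Subgroup.index_ne_zero_of_finite).mpr hd r
    omega
  · by_cases hx : x ∈ A
    · rw [if_pos hx, Complex.mul_conj, Complex.normSq_eq_norm_sq,
        D.norm_apply_center (Subgroup.mem_subgroupOf.mp hx), ← hn]
      push_cast
      ring
    · rw [if_neg hx, D.apply_eq_zero hperf (hQg x).1 (hQg x).2
        (fun h => hx (Subgroup.mem_subgroupOf.mpr h)), zero_mul]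

end Data

end Cfsg.Agent.SmallGroups.DegTwo
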