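import Cfsg.Agent.BlkChar.SmallDegree.Count
import Cfsg.Agent.BlkChar.SmallDegree.Main
import Cfsg.Agent.Lib.CharClifford.Eigen

/-!
# Faithful characters of degree `p - 2`: the centralizer of an element of order `p`

If `z` generates a Sylow subgroup of order `p` which is not central and `χ` is faithful
irreducible of degree `p - 2`, then the `p'`-part of `C(z)` is central and has index two in the
normalizer, apart from `⟨z⟩`.
-/

set_option linter.unusedSectionVars false
set_option autoImplicit false
set_option linter.style.haveILetI false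

open Cfsg
open scoped ComplexConjugate

namespace Cfsg.Agent.SmallGroups.DegTwo

open BlocksCore BlocksDefect SmallGroups.SelfCent CyclicTwist BlkChar.SmallDegree

variable {G : Type*} [Group G] [Fintype G] {p : ℕ} [Fact p.Prime]

/-- An element at which a faithful irreducible character attains its degree in absolute value
is central. -/
theorem mem_center_of_norm_eq (χ : IrrCharacter G)
    (hf : ∀ g : G, (χ : G → ℂ) g = (χ : G → ℂ) 1 → g = 1) {g : G}
    (hg : ‖(χ : G → ℂ) g‖ = (charDegree (χ : G → ℂ) : ℝ)) : g ∈ Subgroup.center G := by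
  classical
  obtain ⟨k, ρ, hρ, hρχ⟩ := χ.2
  have hn : charDegree (χ : G → ℂ) = k := by
    rw [charDegree, ← hρχ, ρ.char_one, Module.finrank_fin_fun, Complex.natCast_re,
      Nat.floor_natCast]
  obtain ⟨a, ha⟩ := CharClifford.exists_scalar_of_norm_character_eq ρ g (by
    rw [hρχ, hg, Module.finrank_fin_fun, hn])
  rw [Subgroup.mem_center_iff]
  intro x
  have h1 : ρ (x * g * x⁻¹ * g⁻¹) = 1 := by
    have e : ρ x * ρ g = ρ g * ρ x := by rw [ha]; simp
    rw [map_mul, map_mul, map_mul, e, mul_assoc (ρ g), ← map_mul ρ x, mul_inv_cancel, map_one,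
      mul_one, ← map_mul, mul_inv_cancel, map_one]
  have h2 := hf (x * g * x⁻¹ * g⁻¹) (by
    rw [← hρχ]; simp only [Representation.character, h1, map_one])
  rw [mul_inv_eq_one, mul_inv_eq_iff_eq_mul] at h2
  exact h2

variable {s : Setup G p} (t : Twist s)

/-- The twisted average of a function in terms of the multiplicities. -/
theorem phi_eq_sum_mult (f : G → ℂ) (k : ZMod p) :
    t.phi f k = ∑ r : ZMod p, t.mult f r * ZMod.stdAddChar (r * k) := by
  classical
  have hp0 : (p : ℂ) ≠ 0 := Nat.cast_ne_zero.mpr (Fact.out : p.Prime).ne_zero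
  simp only [Twist.mult, mul_assoc, Finset.sum_mul]
  rw [← Finset.mul_sum, Finset.sum_comm]
  have h1 : ∀ j : ZMod p, ∑ r : ZMod p, t.phi f j *
      ((ZMod.stdAddChar (-(r * j)) : ℂ) * ZMod.stdAddChar (r * k)) =
      if j = k then t.phi f j * p else 0 := by
    intro j
    rw [← Finset.mul_sum,
      Finset.sum_congr rfl (g := fun r => (ZMod.stdAddChar (r * (k - j)) : ℂ)) (fun r _ => by
        rw [← AddChar.map_add_eq_mul]; congr 1; ring),
      sum_stdAddChar, mul_ite, mul_zero]
    refine if_congr (by rw [sub_eq_zero, eq_comm]) rfl rfl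
  rw [Finset.sum_congr rfl (fun j _ => h1 j), Finset.sum_ite_eq' Finset.univ k,
    if_pos (Finset.mem_univ k)]
  field_simp

/-- Each conjugate of `θ` occurs in the restriction to `K` as often as `θ`. -/
theorem relIndex_mul_le (χ : IrrCharacter G) (S : ℕ)
    (hS : t.phi (χ : G → ℂ) 0 = (S : ℂ)) :
    t.T.relIndex (Subgroup.normalizer ((Subgroup.zpowers s.z : Subgroup G) : Set G)) *
      charDegree (t.θ : t.C → ℂ) * S ≤ charDegree (χ : G → ℂ) := by
  classical
  set NN := Subgroup.normalizer ((Subgroup.zpowers s.z : Subgroup G) : Set G) with hNN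
  haveI := Fintype.ofFinite s.K
  haveI := Fintype.ofFinite t.C
  set R := NN ⧸ t.T.subgroupOf NN with hR
  haveI := Fintype.ofFinite R
  have hK0 : (Nat.card s.K : ℂ) ≠ 0 := Nat.cast_ne_zero.mpr Nat.card_pos.ne'
  have hconjK : ∀ g ∈ NN, ∀ w ∈ s.K, g * w * g⁻¹ ∈ s.K := fun g hg w hw => by
    obtain ⟨a, ha⟩ := exists_conj_eq hg
    exact s.conj_mem_K one_ne_zero (conj_zp_eq ha 1) hw
  have hreindex : ∀ g ∈ NN, ∀ F : G → ℂ,
      ∑ w ∈ s.kset, F (g * w * g⁻¹) = ∑ w ∈ s.kset, F w := by
    intro g hg F
    refine Finset.sum_nbij (fun w => g * w * g⁻¹)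
      (fun w hw => s.mem_kset.mpr (hconjK g hg w (s.mem_kset.mp hw)))
      (fun a _ b _ h => by simpa using h) (fun w hw => ⟨g⁻¹ * w * g, ?_, by group⟩) (fun _ _ => rfl)
    have h1 := hconjK g⁻¹ (inv_mem hg) w (s.mem_kset.mp hw)
    rw [inv_inv] at h1
    exact s.mem_kset.mpr h1
  have hsumK : ∀ F : G → ℂ, ∑ w : s.K, F w = ∑ w ∈ s.kset, F w := fun F =>
    (Finset.sum_subtype s.kset (fun w => s.mem_kset) F).symm
  -- the conjugates
  have hirr : ∀ g : NN, IsIrrCharacter s.K (fun w : s.K => t.th ((g : G) * w * (g : G)⁻¹)) := by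
    intro g
    rw [CharCore.isIrrCharacter_iff]
    refine ⟨?_, ?_⟩
    · have h := CharCore.isCharacter_comp (CharCore.irr_isCharacter t.θ)
        ((normConj (g : G) (t.mem_iff_conj g.2)).toMonoidHom.comp (Subgroup.inclusion t.K_le))
      convert h using 1
      funext w
      exact t.th_coe ⟨(g : G) * w * (g : G)⁻¹, (t.mem_iff_conj g.2 _).mp (t.K_le w.2)⟩
    · rw [CharCore.classInner_def,
        hsumK (fun x => t.th ((g : G) * x * (g : G)⁻¹) * conj (t.th ((g : G) * x * (g : G)⁻¹))),
        hreindex _ g.2 (fun x => t.th x * conj (t.th x)),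
        Finset.sum_congr rfl (fun w _ => mul_comm _ _), t.sum_th_norm, inv_mul_cancel₀ hK0]
  let ψ : R → IrrCharacter s.K := fun r => ⟨_, hirr (Quotient.out r)⁻¹⟩
  have hinj : Function.Injective ψ := by
    intro r r' h
    set g : NN := Quotient.out r with hg
    set g' : NN := Quotient.out r' with hg'
    have hk : ((g : G)⁻¹ * (g' : G)) ∈ NN := mul_mem (inv_mem g.2) g'.2
    have hval : ∀ w ∈ s.K,
        t.th (((g : G)⁻¹ * g') * w * ((g : G)⁻¹ * g')⁻¹) = t.th w := by
      intro w hw
      have hv := hconjK g' g'.2 w hw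
      have h1 := congrFun (congrArg Subtype.val h) ⟨(g' : G) * w * (g' : G)⁻¹, hv⟩
      have h2 : t.th ((g : G)⁻¹ * ((g' : G) * w * (g' : G)⁻¹) * (g : G)⁻¹⁻¹) =
          t.th ((g' : G)⁻¹ * ((g' : G) * w * (g' : G)⁻¹) * (g' : G)⁻¹⁻¹) := h1
      rw [show (g' : G)⁻¹ * ((g' : G) * w * (g' : G)⁻¹) * (g' : G)⁻¹⁻¹ = w by group] at h2
      rw [← h2]
      congr 1
      group
    obtain ⟨a, ha⟩ := exists_conj_eq hk
    have hmem : (g : G)⁻¹ * g' ∈ t.T := by
      have h1 := t.sum_th_conj ha
      rw [Finset.sum_congr rfl (g := fun w => conj (t.th w) * t.th w)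
        (fun w hw => by rw [hval w (s.mem_kset.mp hw)]), t.sum_th_norm] at h1
      by_contra hn
      rw [if_neg hn] at h1
      exact hK0 h1
    rw [← Quotient.out_eq r, ← Quotient.out_eq r', ← hg, ← hg']
    exact (QuotientGroup.eq (s := t.T.subgroupOf NN)).mpr (Subgroup.mem_subgroupOf.mpr hmem)
  set res : s.K → ℂ := fun w => (χ : G → ℂ) w with hres
  have hresc : IsCharacter s.K res := CharCore.isCharacter_restrict (CharCore.irr_isCharacter χ) s.K
  choose a ha using fun φ : IrrCharacter s.K =>
    CharCore.IsCharacter.exists_classInner_eq_natCast hresc (CharCore.irr_isCharacter φ)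
  have hdec : ∀ w, res w = ∑ φ : IrrCharacter s.K, (a φ : ℂ) * (φ : s.K → ℂ) w := fun w => by
    conv_lhs => rw [CharCore.IsCharacter.eq_sum_classInner hresc]
    simp [ha]
  have hdeg : charDegree (χ : G → ℂ) =
      ∑ φ : IrrCharacter s.K, a φ * charDegree (φ : s.K → ℂ) := by
    have h := hdec 1
    rw [hres, Finset.sum_congr rfl fun φ _ => by rw [irr_one_eq]] at h
    simp only [OneMemClass.coe_one, irr_one_eq] at h
    exact_mod_cast h
  have haψ : ∀ r, a (ψ r) = S := by
    intro r
    set g : G := ((Quotient.out r : NN) : G)⁻¹ with hg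
    have hgN : g ∈ NN := inv_mem (Quotient.out r : NN).2
    have h := ha (ψ r)
    rw [CharCore.classInner_def, hres] at h
    have h1 : ∑ w : s.K, (χ : G → ℂ) w * conj ((ψ r : s.K → ℂ) w) =
        ∑ w ∈ s.kset, (χ : G → ℂ) w * conj (t.th w) := by
      rw [← hreindex g hgN (fun x => (χ : G → ℂ) x * conj (t.th x)),
        ← hsumK (fun x => (χ : G → ℂ) (g * x * g⁻¹) * conj (t.th (g * x * g⁻¹)))]
      refine Finset.sum_congr rfl fun w _ => ?_
      rw [CharCore.irr_isClassFunction χ (w : G) g]
      rfl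
    rw [h1] at h
    have h2 : t.phi (χ : G → ℂ) 0 = (a (ψ r) : ℂ) := by
      rw [← h, Twist.phi, s.card_kset]
      simp [s.zp_zero]
    rw [hS] at h2
    exact_mod_cast h2.symm
  have hψd : ∀ r, charDegree (ψ r : s.K → ℂ) = charDegree (t.θ : t.C → ℂ) := by
    intro r
    show charDegree (fun w : s.K => t.th _) = _
    rw [charDegree, charDegree]
    congr 2
    rw [← t.th_one]
    congr 1
    simp
  have hq : t.T.relIndex NN = Fintype.card R := by
    rw [Subgroup.relIndex, Subgroup.index, ← Nat.card_eq_fintype_card]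
  rw [hq, hdeg, mul_assoc]
  calc Fintype.card R * (charDegree (t.θ : t.C → ℂ) * S)
      = ∑ r : R, a (ψ r) * charDegree (ψ r : s.K → ℂ) := by
        rw [Finset.sum_congr rfl fun r _ => by rw [haψ r, hψd r], Finset.sum_const,
          Finset.card_univ, smul_eq_mul]
        ring
    _ = ∑ φ ∈ Finset.univ.image ψ, a φ * charDegree (φ : s.K → ℂ) :=
        (Finset.sum_image (f := fun φ => a φ * charDegree (φ : s.K → ℂ))
          fun x _ y _ h => hinj h).symm
    _ ≤ _ := Finset.sum_le_sum_of_subset (Finset.subset_univ _)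

variable (s)

/-- The centralizer of `z`: its `p'`-part is central and of index two in the normalizer. -/
theorem local_structure (hidx : ¬ p ∣ (Subgroup.zpowers s.z).index) (hp5 : 5 ≤ p)
    (χ : IrrCharacter G) (hf : ∀ g : G, (χ : G → ℂ) g = (χ : G → ℂ) 1 → g = 1)
    (hdeg : charDegree (χ : G → ℂ) + 2 = p) (hz : s.z ∉ Subgroup.center G) :
    s.K ≤ Subgroup.center G ∧
      (Subgroup.centralizer ({s.z} : Set G)).relIndex
        (Subgroup.normalizer ((Subgroup.zpowers s.z : Subgroup G) : Set G)) = 2 := by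
  classical
  have hp : p.Prime := Fact.out
  obtain ⟨M, hM⟩ := Blocks88.exists_isPModular hp
  haveI := BlocksCore.isPrime hM
  set n := charDegree (χ : G → ℂ) with hn
  have hn0 : 0 < n := charDegree_pos χ
  have hpn : ¬ p ∣ n := fun h => by have := Nat.le_of_dvd hn0 h; omega
  have hB : IsPBlock M (blockOf M (χ : G → ℂ)) := isPBlock_blockOf χ
  have hχB := mem_blockOf_self (M := M) χ
  have hBP := isDefectGroup_zpowers hM s hidx hB
    ((blockDefect_of_not_dvd hχB hpn).trans (factorization_eq_one s hidx))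
  obtain ⟨t, hind⟩ := exists_twist_of_setup hM s hB hBP
  haveI := Fintype.ofFinite t.Orb
  set NN := Subgroup.normalizer ((Subgroup.zpowers s.z : Subgroup G) : Set G) with hNN
  set q := t.T.relIndex NN with hq
  set d := charDegree (t.θ : t.C → ℂ) with hd
  set et := Nat.card t.auto with het
  have hd0 : 0 < d := charDegree_pos t.θ
  have he : et * q = t.C.relIndex NN := by
    rw [het, ← t.relIndex_eq, hq]
    exact Subgroup.relIndex_mul_relIndex _ _ _ t.C_le_T t.T_le_normalizer
  have hediv : et * q ∣ p - 1 := by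
    obtain ⟨ν, hν⟩ := t.exists_hom
    rw [he, Subgroup.relIndex, ← hν, Subgroup.index_ker, ← ZMod.card_units p,
      ← Nat.card_eq_fintype_card]
    exact Subgroup.card_subgroup_dvd_card _
  -- the multiplicities
  have hχc := CharCore.irr_isCharacter χ
  choose m hm using fun r => t.mult_eq_natCast hχc r
  set S := ∑ r, m r with hSdef
  have hS : t.phi (χ : G → ℂ) 0 = (S : ℂ) := by
    rw [phi_eq_sum_mult t, hSdef, Nat.cast_sum]
    exact Finset.sum_congr rfl fun r _ => by simp [hm r]
  have hvec : ∀ r, (m r : ℤ) = m 0 + t.vec χ r := fun r => by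
    have h : t.vec χ r = (m r : ℤ) - m 0 := Int.cast_injective (α := ℂ) (by
      rw [t.vec_spec, Twist.vecC_eq_sub, hm r, hm 0]; push_cast; ring)
    omega
  set u : ℤ := (et : ℤ) * ∑ o, t.vecO χ o with hu
  have hSu : (S : ℤ) = p * m 0 + u := by
    have h := sum_vec s t χ id rfl
    simp only [id_eq] at h
    rw [hu, het, ← h, hSdef, Nat.cast_sum, Finset.sum_congr rfl fun r _ => hvec r,
      Finset.sum_add_distrib, Finset.sum_const, Finset.card_univ, ZMod.card, nsmul_eq_mul]
  -- the degree is `q * d * S`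
  have hle := relIndex_mul_le t χ S hS
  rw [← hq, ← hd, ← hn] at hle
  have hqdS : q * d * S = n := by
    have h := t.charDegree_modEq hM hind hBP hχB
    rw [← hq, ← hd, ← hn, ← het, ← hu] at h
    have h1 : ((q * d * S : ℕ) : ℤ) ≡ (n : ℤ) [ZMOD p] := by
      refine Int.ModEq.trans ?_ h.symm
      rw [Nat.cast_mul (q * d) S, hSu]
      refine Int.ModEq.mul_left _ ?_
      rw [Int.modEq_iff_dvd]
      exact ⟨-(m 0 : ℤ), by ring⟩
    rw [Int.natCast_modEq_iff, Nat.ModEq, Nat.mod_eq_of_lt (by omega),
      Nat.mod_eq_of_lt (by omega)] at h1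
    exact h1
  have hcop : ∀ x, x ∣ p - 1 → x ∣ n → x = 1 := fun x h1 h2 => by
    rw [show p - 1 = n + 1 by omega] at h1
    exact Nat.dvd_one.mp ((Nat.dvd_add_iff_right h2).mpr h1)
  have hq1 : q = 1 := hcop q ((dvd_mul_left _ _).trans hediv)
    (hqdS ▸ Dvd.intro (d * S) (by ring))
  rw [hq1, one_mul] at hqdS
  rw [hq1, mul_one] at hediv he
  have hetle : et ≤ p - 1 := Nat.le_of_dvd (by omega) hediv
  have hSle : S ≤ n := hqdS ▸ Nat.le_mul_of_pos_left S hd0
  -- the two possibilities
  have hS1 : S = 1 ∨ (et = 2 ∧ d = 1) := by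
    obtain ⟨f, c, ε, hε, -, -, hvf, hcx, -⟩ := t.exists_shape hM hind hBP hidx
    by_cases hY : ∃ i, f i = χ
    · obtain ⟨i, rfl⟩ := hY
      have hu' : u = (et : ℤ) * ε := by
        rw [hu, Finset.sum_congr rfl fun o _ => hvf o i, Finset.sum_ite_eq',
          if_pos (Finset.mem_univ i)]
      obtain ⟨r, rfl⟩ := QuotientGroup.mk_surjective i
      have hr := hvec (r : ZMod p)
      rw [t.vec_eq_vecO, hvf, if_pos rfl] at hr
      rcases hε with h | h <;> subst h
      · left
        have h0 : m 0 = 0 := by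
          by_contra h0
          have : (p : ℤ) * 1 ≤ p * m 0 := by gcongr; omega
          omega
        rw [h0, Nat.cast_zero, mul_zero, zero_add, hu', mul_one] at hSu
        have hSe : S = et := by exact_mod_cast hSu
        exact hcop S (hSe ▸ hediv) (hqdS ▸ dvd_mul_left _ _)
      · have h1 : 1 ≤ m 0 := by omega
        have h2 : m 0 = 1 := by
          by_contra h2
          have : (p : ℤ) * 2 ≤ p * m 0 := by gcongr; omega
          omega
        rw [h2, hu'] at hSu
        push_cast at hSu
        have hSe : S + et = p := by omega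
        obtain ⟨k, hk⟩ := hediv
        rcases Nat.lt_or_ge et 3 with h3 | h3
        · interval_cases et
          · omega
          · omega
          · right
            refine ⟨rfl, ?_⟩
            have hSn : S = n := by omega
            rw [hSn] at hqdS
            exact Nat.eq_of_mul_eq_mul_right hn0 (hqdS.trans (one_mul n).symm)
        · rcases Nat.lt_or_ge k 2 with hk2 | hk2
          · interval_cases k
            · omega
            · left; omega
          · exfalso
            have h4 : 2 * et ≤ et * k := by rw [mul_comm]; exact Nat.mul_le_mul_left et hk2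
            rcases Nat.lt_or_ge d 2 with hd2 | hd2
            · have : d = 1 := by omega
              rw [this, one_mul] at hqdS
              omega
            · have : 2 * S ≤ d * S := Nat.mul_le_mul_right S hd2
              omega
    · push Not at hY
      obtain ⟨hc1, hc2⟩ := hcx χ hχB hY
      have hu' : u = ((p : ℤ) - 1) * c χ := by
        rw [hu, Finset.sum_congr rfl fun o _ => hc2 o, Finset.sum_const, Finset.card_univ,
          nsmul_eq_mul, ← mul_assoc, ← Nat.cast_mul, ← Nat.card_eq_fintype_card, mul_comm et,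
          het, t.card_orb_mul, Nat.cast_sub hp.one_le]
        push_cast
        ring
      left
      have hr := hvec ((1 : (ZMod p)ˣ) : ZMod p)
      rw [t.vec_eq_vecO, hc2] at hr
      rcases hc1 with h | h <;> rw [h] at hu' hr <;> rw [hu'] at hSu
      · have : (0 : ℤ) ≤ p * m 0 := by positivity
        omega
      · have h1 : 1 ≤ m 0 := by omega
        have h2 : m 0 = 1 := by
          by_contra h2
          have : (p : ℤ) * 2 ≤ p * m 0 := by gcongr; omega
          omega
        rw [h2] at hSu
        push_cast at hSu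
        omega
  have hval : ∀ w, ‖t.th w‖ ≤ (d : ℝ) := by
    intro w
    by_cases hw : w ∈ t.C
    · rw [show t.th w = (t.θ : t.C → ℂ) ⟨w, hw⟩ from t.th_coe ⟨w, hw⟩]
      haveI := Fintype.ofFinite t.C
      have h := CharCore.IsCharacter.norm_apply_le (CharCore.irr_isCharacter t.θ) ⟨w, hw⟩
      rwa [irr_one_eq, Complex.norm_natCast] at h
    · rw [Twist.th, extFun_notMem _ hw, norm_zero]
      positivity
  have hχle : ∀ g, ‖(χ : G → ℂ) g‖ ≤ (n : ℝ) := fun g => by
    have h := CharCore.IsCharacter.norm_apply_le hχc g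
    rwa [irr_one_eq, Complex.norm_natCast] at h
  rcases hS1 with hS1 | ⟨het2, hd1⟩
  · -- `z` would be central
    exfalso
    rw [hS1, mul_one] at hqdS
    obtain ⟨r₀, hr₀⟩ : ∃ r₀, m r₀ ≠ 0 := by
      by_contra h
      push Not at h
      simp [hSdef, h] at hS1
    have hm' : ∀ r, m r = if r = r₀ then 1 else 0 := by
      intro r
      have h1 := Finset.add_sum_erase Finset.univ m (Finset.mem_univ r₀)
      rw [← hSdef, hS1] at h1
      split_ifs with h
      · subst h; omega
      · have h2 : m r ≤ ∑ x ∈ Finset.univ.erase r₀, m x :=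
          Finset.single_le_sum (fun x _ => Nat.zero_le (m x))
            (Finset.mem_erase.mpr ⟨h, Finset.mem_univ _⟩)
        omega
    have hphi : ∀ k, ‖t.phi (χ : G → ℂ) k‖ = 1 := by
      intro k
      rw [phi_eq_sum_mult t, Finset.sum_eq_single r₀ (fun r _ hr => by
        rw [hm r, hm', if_neg hr, Nat.cast_zero, zero_mul]) (by simp), hm r₀, hm', if_pos rfl,
        Nat.cast_one, one_mul]
      exact Complex.norm_eq_one_of_pow_eq_one (by
        rw [← AddChar.map_nsmul_eq_pow, nsmul_eq_mul, ZMod.natCast_self, zero_mul,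
          AddChar.map_zero_eq_one]) hp.ne_zero
    obtain ⟨F, -, hFv⟩ := t.apply_zp hM hind hBP one_ne_zero hχB
    refine hz (mem_center_of_norm_eq χ hf ?_)
    have hsub : Subsingleton (Fin q) := by rw [hq1]; infer_instance
    rw [← s.zp_one, hFv, Fintype.sum_subsingleton _ (⟨0, by omega⟩ : Fin q),
      norm_mul, hphi, mul_one, irr_one_eq, Complex.norm_natCast, ← hd, hqdS]
  · refine ⟨fun w hw => mem_center_of_norm_eq χ hf ?_, ?_⟩
    · rw [hd1, one_mul] at hqdS
      have hsum : ∑ x : s.kset, (χ : G → ℂ) x * conj (t.th x) =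
          (Fintype.card s.kset : ℂ) * (n : ℂ) := by
        rw [Fintype.card_coe, ← hqdS, ← hS,
          Finset.sum_coe_sort s.kset (fun x => (χ : G → ℂ) x * conj (t.th x)), Twist.phi,
          mul_inv_cancel_left₀ s.card_kset_ne_zero]
        simp [s.zp_zero]
      have hbound : ∀ x : s.kset, ‖(χ : G → ℂ) x * conj (t.th x)‖ ≤ (n : ℝ) := fun x => by
        rw [norm_mul, RCLike.norm_conj]
        refine (mul_le_mul (hχle _) (hval _) (norm_nonneg _) (Nat.cast_nonneg _)).trans ?_
        rw [hd1, Nat.cast_one, mul_one]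
      have h := eq_of_sum_eq (fun x : s.kset => (χ : G → ℂ) x * conj (t.th x)) n hbound hsum
        ⟨w, s.mem_kset.mpr hw⟩
      refine le_antisymm (hχle w) ?_
      have h' := congrArg norm h
      rw [Complex.norm_natCast, norm_mul, RCLike.norm_conj] at h'
      calc (n : ℝ) = ‖(χ : G → ℂ) w‖ * ‖t.th w‖ := h'.symm
        _ ≤ ‖(χ : G → ℂ) w‖ * 1 := by
          refine mul_le_mul_of_nonneg_left ((hval w).trans ?_) (norm_nonneg _)
          rw [hd1, Nat.cast_one]
        _ = _ := mul_one _
    · rw [← t.hC, ← he, het2]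

end Cfsg.Agent.SmallGroups.DegTwo
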