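import Cfsg.Agent.Lib.SmallGroups.DegTwo.Galois
import Cfsg.Agent.CharDeep.OrderP.Recog
import Cfsg.Agent.BC86.Core
import Cfsg.Agent.Lib.SmallGroups.Few.Faithful
import Cfsg.Agent.Lib.LinearGroup.TorusSylow

/-!
# Faithful characters of degree `p - 2`: recognition of `SL₂(2 ^ a) × Z`
-/

set_option linter.unusedSectionVars false
set_option linter.style.haveILetI false
set_option autoImplicit false

open Cfsg

namespace Cfsg.Agent.SmallGroups.DegTwo

open BlocksCore BlocksDefect SmallGroups.SelfCent BlkChar.SmallDegree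

/-- The arithmetic of the two small degrees `A` and `b` of a self-centralizing group of order `p`
with normalizer of order `2 p`. -/
theorem eq_sub_two_of_degrees {p A b n : ℕ} {δ ε : ℤ} (hp : p.Prime) (hp5 : 5 < p)
    (hn : n + 2 = p) (hA : 2 ≤ A) (hb : 1 ≤ b) (hδ : δ = 1 ∨ δ = -1) (hε : ε = 1 ∨ ε = -1)
    (ha : (p : ℤ) ∣ (A : ℤ) - δ) (hbm : (p : ℤ) ∣ (b : ℤ) - 2 * ε)
    (hdeq : 1 + δ * (A : ℤ) = ε * b)
    (hAd : Odd A → ¬ p ∣ A → A ∣ n ^ 2) (hbd : Odd b → ¬ p ∣ b → b ∣ n ^ 2) :
    b = n := by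
  haveI := Fact.mk hp
  have hpo : Odd p := hp.odd_of_ne_two (by omega)
  have hno : Odd n := by
    obtain ⟨k, hk⟩ := hpo; exact ⟨k - 1, by omega⟩
  have hn2 : ((n : ZMod p)) ^ 2 = 4 := by
    have : (n : ZMod p) = -2 := by
      have h := congrArg (fun x : ℕ => (x : ZMod p)) hn
      push_cast at h
      rw [ZMod.natCast_self] at h
      linear_combination h
    rw [this]; norm_num
  have hne : ∀ k : ℕ, 0 < k → k < p → (k : ZMod p) ≠ 0 := fun k h1 h2 h => by
    have := Nat.le_of_dvd h1 ((ZMod.natCast_eq_zero_iff _ _).mp h)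
    omega
  -- lower bounds for odd numbers in given residue classes
  have hlow : ∀ x r : ℕ, 0 < r → r < p → (x : ZMod p) = (r : ZMod p) → (Odd x ↔ ¬ Odd r) →
      p + r ≤ x := by
    intro x r hr1 hr2 hx hodd
    rw [ZMod.natCast_eq_natCast_iff', Nat.mod_eq_of_lt hr2] at hx
    have h1 := Nat.mod_add_div x p
    rw [hx] at h1
    rcases Nat.eq_zero_or_pos (x / p) with h | h
    · rw [h, mul_zero, add_zero] at h1
      rw [h1] at hodd
      tauto
    · have : p * 1 ≤ p * (x / p) := Nat.mul_le_mul_left p h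
      omega
  have hres : ∀ x r : ℕ, r < p → (x : ZMod p) = (r : ZMod p) → r ≤ x := by
    intro x r hr hx
    rw [ZMod.natCast_eq_natCast_iff', Nat.mod_eq_of_lt hr] at hx
    rw [← hx]
    exact Nat.mod_le _ _
  have hA' : (A : ZMod p) = δ := by
    have := (ZMod.intCast_zmod_eq_zero_iff_dvd _ p).mpr ha
    push_cast at this
    linear_combination this
  have hb' : (b : ZMod p) = 2 * ε := by
    have := (ZMod.intCast_zmod_eq_zero_iff_dvd _ p).mpr hbm
    push_cast at this
    linear_combination this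
  have h4 : ((4 : ℕ) : ZMod p) ≠ 0 := hne 4 (by norm_num) (by omega)
  have h2 : ((2 : ℕ) : ZMod p) ≠ 0 := hne 2 (by norm_num) (by omega)
  push_cast at h4 h2
  have hAp : ¬ p ∣ A := by
    rw [← ZMod.natCast_eq_zero_iff, hA']
    rcases hδ with h | h <;> simp [h]
  have hbp : ¬ p ∣ b := by
    rw [← ZMod.natCast_eq_zero_iff, hb']
    rcases hε with h | h <;> simp [h, h2]
  rcases hδ with h | h <;> subst h <;> rcases hε with h | h <;> subst h <;> push_cast at hA' hb'
  · -- `b = A + 1`
    exfalso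
    have hab : b = A + 1 := by omega
    rcases Nat.even_or_odd A with hAe | hAo
    · have hbo : Odd b := hab ▸ hAe.add_one
      obtain ⟨d, hd⟩ := hbd hbo hbp
      have hdo : Odd d := by
        have h := hno.pow (n := 2)
        rw [hd] at h
        exact (Nat.odd_mul.mp h).2
      have hd2 : (d : ZMod p) = ((2 : ℕ) : ZMod p) := by
        have h := congrArg (fun x : ℕ => (x : ZMod p)) hd
        push_cast at h ⊢
        rw [hn2, hb'] at h
        exact mul_left_cancel₀ h2 (by linear_combination -h)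
      have hb2 : (b : ZMod p) = ((2 : ℕ) : ZMod p) := by push_cast; rw [hb', mul_one]
      have e1 := hlow d 2 (by norm_num) (by omega) hd2
        (iff_of_true hdo (by decide))
      have e2 := hlow b 2 (by norm_num) (by omega) hb2
        (iff_of_true hbo (by decide))
      have := Nat.mul_le_mul e2 e1
      have : n ^ 2 < (p + 2) * (p + 2) := by
        rw [sq]; exact Nat.mul_self_lt_mul_self (by omega)
      omega
    · obtain ⟨d, hd⟩ := hAd hAo hAp
      have hdo : Odd d := by
        have h := hno.pow (n := 2)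
        rw [hd] at h
        exact (Nat.odd_mul.mp h).2
      have hd2 : (d : ZMod p) = ((4 : ℕ) : ZMod p) := by
        have h := congrArg (fun x : ℕ => (x : ZMod p)) hd
        push_cast at h ⊢
        rw [hn2, hA', one_mul] at h
        exact h.symm
      have e1 := hlow d 4 (by norm_num) (by omega) hd2 (iff_of_true hdo (by decide))
      have e2 : p + 1 ≤ A := by
        have hm : A % p = 1 := by
          have h : (A : ZMod p) = ((1 : ℕ) : ZMod p) := by push_cast; exact hA'
          rwa [ZMod.natCast_eq_natCast_iff', Nat.mod_eq_of_lt hp.one_lt] at h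
        have h1 := Nat.mod_add_div A p
        rcases Nat.eq_zero_or_pos (A / p) with h | h
        · rw [h, hm] at h1; omega
        · have : p * 1 ≤ p * (A / p) := Nat.mul_le_mul_left p h
          omega
      have := Nat.mul_le_mul e2 e1
      have : n ^ 2 < (p + 1) * (p + 4) := by
        rw [sq]
        exact Nat.mul_lt_mul_of_lt_of_lt (by omega) (by omega)
      omega
  · exfalso; omega
  · exfalso; omega
  · -- `A = b + 1`
    have hab : A = b + 1 := by omega
    have hp2 : ((p - 2 : ℕ) : ZMod p) = -2 := by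
      rw [Nat.cast_sub (by omega), ZMod.natCast_self, zero_sub]; norm_num
    rcases Nat.even_or_odd b with hbe | hbo
    · exfalso
      have hAo : Odd A := hab ▸ hbe.add_one
      obtain ⟨d, hd⟩ := hAd hAo hAp
      have hd2 : (d : ZMod p) = ((p - 4 : ℕ) : ZMod p) := by
        have h := congrArg (fun x : ℕ => (x : ZMod p)) hd
        push_cast at h
        rw [hn2, hA'] at h
        rw [Nat.cast_sub (by omega), ZMod.natCast_self, zero_sub]
        push_cast
        linear_combination h
      have e1 := hres d (p - 4) (by omega) hd2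
      have hA1 : (A : ZMod p) = ((p - 1 : ℕ) : ZMod p) := by
        rw [Nat.cast_sub (by omega), ZMod.natCast_self, zero_sub, hA']; norm_num
      have e2 := hlow A (p - 1) (by omega) (by omega) hA1 (iff_of_true hAo (by
        rw [Nat.not_odd_iff_even]; exact Nat.Odd.sub_odd hpo odd_one))
      have := Nat.mul_le_mul e2 e1
      obtain ⟨j, rfl⟩ := Nat.exists_eq_add_of_le (show 4 ≤ p by omega)
      obtain rfl : n = 2 + j := by omega
      rw [sq] at hd
      simp only [show 4 + j + (4 + j - 1) = 2 * j + 7 by omega, show 4 + j - 4 = j by omega] at this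
      nlinarith
    · obtain ⟨d, hd⟩ := hbd hbo hbp
      have hd2 : (d : ZMod p) = ((p - 2 : ℕ) : ZMod p) := by
        have h := congrArg (fun x : ℕ => (x : ZMod p)) hd
        push_cast at h
        rw [hn2, hb'] at h
        rw [hp2]
        exact mul_left_cancel₀ h2 (by linear_combination h)
      have hb2 : (b : ZMod p) = ((p - 2 : ℕ) : ZMod p) := by rw [hp2, hb']; ring
      have e1 := hres d (p - 2) (by omega) hd2
      have e2 := hres b (p - 2) (by omega) hb2
      rw [show p - 2 = n by omega] at e1 e2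
      rw [sq] at hd
      refine le_antisymm ?_ e2
      refine Nat.le_of_mul_le_mul_right ((Nat.mul_le_mul_left b e1).trans (le_of_eq hd.symm)) ?_
      omega

variable {G : Type*} [Group G] [Fintype G] {p : ℕ} [Fact p.Prime]

namespace Data

variable (D : Data G p)

include D

/-- The setup of `G` modulo its centre. -/
theorem exists_setup_bar : ∃ s : Setup (G ⧸ Subgroup.center G) p, s.K = ⊥ ∧
    ¬ p ∣ (Subgroup.zpowers s.z).index ∧ Nat.card s.auto = 2 := by
  classical
  have hp : p.Prime := Fact.out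
  have hz : orderOf (D.s.z : G ⧸ Subgroup.center G) = p :=
    orderOf_eq_prime (by rw [← QuotientGroup.mk_pow, D.zpow_p, QuotientGroup.mk_one]) fun h =>
      D.notMem_center ((QuotientGroup.eq_one_iff _).mp h)
  have hidx : ¬ p ∣ (Subgroup.zpowers (D.s.z : G ⧸ Subgroup.center G)).index := by
    refine not_dvd_index_zpowers (fun h => D.hsq (h.trans ?_)) hz
    exact Subgroup.index_dvd_card _
  have hcent : Subgroup.centralizer ({(D.s.z : G ⧸ Subgroup.center G)} : Set _) =
      Subgroup.zpowers (D.s.z : G ⧸ Subgroup.center G) := by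
    refine le_antisymm (fun q hq => ?_) (Subgroup.zpowers_le.mpr
      (Subgroup.mem_centralizer_singleton_iff.mpr rfl))
    obtain ⟨g, rfl⟩ := QuotientGroup.mk_surjective q
    have h := Subgroup.mem_centralizer_singleton_iff.mp hq
    have hg : g * D.s.z * g⁻¹ = D.s.z := D.eq_of_mk_eq (D.conj_pow_p g) D.zpow_p (by
        rw [QuotientGroup.mk_mul, QuotientGroup.mk_mul, QuotientGroup.mk_inv, h,
          mul_inv_cancel_right])
    obtain ⟨a, w, hw, rfl⟩ := D.s.exists_of_mem_cent
      (Subgroup.mem_centralizer_singleton_iff.mpr (mul_inv_eq_iff_eq_mul.mp hg))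
    rw [QuotientGroup.mk_mul, (QuotientGroup.eq_one_iff w).mpr (D.K_le hw), mul_one,
      Setup.zp, QuotientGroup.mk_pow]
    exact pow_mem (Subgroup.mem_zpowers _) _
  let s : Setup (G ⧸ Subgroup.center G) p :=
    { z := D.s.z
      K := ⊥
      orderOf_z := hz
      comm := fun w hw => by rw [Subgroup.mem_bot.mp hw, one_mul, mul_one]
      not_dvd := by rw [Subgroup.card_bot]; exact hp.not_dvd_one
      card_cent := by rw [hcent, Nat.card_zpowers, hz, Subgroup.card_bot, mul_one] }
  refine ⟨s, rfl, hidx, ?_⟩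
  rw [← D.card_auto]
  suffices h : s.auto = D.s.auto by rw [h]
  ext a
  rw [s.mem_auto_iff, D.s.mem_auto_iff]
  have hzp : s.zp (a : ZMod p) = ((D.s.zp (a : ZMod p) : G) : G ⧸ Subgroup.center G) :=
    (QuotientGroup.mk_pow _ _ _).symm
  constructor
  · intro h
    obtain ⟨q, hq⟩ := isConj_iff.mp h
    obtain ⟨g, rfl⟩ := QuotientGroup.mk_surjective q
    refine isConj_iff.mpr ⟨g, D.eq_of_mk_eq (D.conj_pow_p g)
      (by rw [D.s.zp_pow, ZMod.natCast_self, mul_zero, D.s.zp_zero]) ?_⟩
    rw [QuotientGroup.mk_mul, QuotientGroup.mk_mul, QuotientGroup.mk_inv, ← hzp]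
    exact hq
  · intro h
    obtain ⟨g, hg⟩ := isConj_iff.mp h
    exact isConj_iff.mpr ⟨(g : G ⧸ _), by rw [hzp, ← hg]; rfl⟩

variable (hperf : commutator G = ⊤) (hp5 : 5 < p)

include hperf hp5

set_option maxHeartbeats 1000000 in
/-- The group modulo its centre is `SL₂(2 ^ a)`. -/
theorem exists_bar_equiv : ∃ (a : ℕ) (F : Type) (_ : Field F) (_ : Fintype F),
    p = 2 ^ a + 1 ∧ Fintype.card F = 2 ^ a ∧
      Nonempty ((G ⧸ Subgroup.center G) ≃* Matrix.SpecialLinearGroup (Fin 2) F) := by
  classical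
  have hp : p.Prime := Fact.out
  obtain ⟨s, hK, hidx, he⟩ := D.exists_setup_bar
  haveI := D.isSimpleGroup_bar
  haveI : Fintype (G ⧸ Subgroup.center G) := Fintype.ofFinite _
  haveI := Fintype.ofFinite s.Orb
  obtain ⟨D2, χa, δ, hδ, hat, hane, hca, hd, hrest⟩ := s.exists_two_data hp5.le he
  obtain ⟨o₀⟩ : Nonempty s.Orb := inferInstance
  have hperf' : commutator (G ⧸ Subgroup.center G) = ⊤ := by
    have h := congrArg (Subgroup.map (QuotientGroup.mk' (Subgroup.center G))) hperf
    rw [commutator_def, Subgroup.map_commutator, Subgroup.map_top_of_surjective _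
      (QuotientGroup.mk'_surjective _)] at h
    exact h
  have hmoda : (p : ℤ) ∣ (Setup.deg χa : ℤ) - δ := by
    obtain ⟨n, -, hn, hm⟩ := D2.fix_congr χa
    rw [hn hK, if_neg (fun ⟨o, ho⟩ => hane o ho), hca, neg_neg, add_zero] at hm
    exact hm.symm.dvd
  have hmodb : (p : ℤ) ∣ (D2.b : ℤ) - 2 * D2.eps := by
    obtain ⟨n, -, hn, hm⟩ := D2.fix_congr (D2.f o₀)
    rw [hn hK, if_pos ⟨o₀, rfl⟩, D2.c_f, hd, D2.deg_f, he, neg_zero, zero_add] at hm
    exact_mod_cast hm.symm.dvd
  have hdeq : 1 + δ * (Setup.deg χa : ℤ) = D2.eps * D2.b := by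
    have h := D2.degree_eq
    rw [← Finset.sum_subset
      (Finset.subset_univ {(Setup.triv : Cfsg.IrrCharacter (G ⧸ Subgroup.center G)), χa})
      (fun χ _ hχ => by
        simp only [Finset.mem_insert, Finset.mem_singleton, not_or] at hχ
        rw [hrest χ hχ.1 hχ.2, mul_zero]),
      Finset.sum_pair hat.symm, D2.c_triv, hca, Setup.deg_triv] at h
    push_cast at h
    linear_combination -h
  have hA : 2 ≤ Setup.deg χa := by
    have h1 := (Setup.deg_spec χa).1
    by_contra h
    exact hat (Few.eq_triv_of_deg_one hperf' χa (by omega))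
  have hb : 1 ≤ D2.b := D2.deg_f o₀ ▸ (Setup.deg_spec (D2.f o₀)).1
  have hdvd : ∀ φ : IrrCharacter (G ⧸ Subgroup.center G), Odd (Setup.deg φ) →
      ¬ p ∣ Setup.deg φ → Setup.deg φ ∣ charDegree (D.χ : G → ℂ) ^ 2 := by
    intro φ h1 h2
    refine D.dvd_sq hperf ?_ h1 h2
    have h := BC86.degree_dvd_card φ
    rw [show charDegree (φ : (G ⧸ Subgroup.center G) → ℂ) = Setup.deg φ by
      rw [charDegree, (Setup.deg_spec φ).2.2, Complex.natCast_re, Nat.floor_natCast]] at h
    exact h
  have hbn : D2.b = charDegree (D.χ : G → ℂ) :=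
    eq_sub_two_of_degrees hp hp5 D.hdeg hA hb hδ D2.eps_eq hmoda hmodb hdeq
      (hdvd χa) (fun h1 h2 => D2.deg_f o₀ ▸ hdvd (D2.f o₀) ((D2.deg_f o₀).symm ▸ h1)
        ((D2.deg_f o₀).symm ▸ h2))
  have hzP : IsPGroup p (Subgroup.zpowers s.z) :=
    IsPGroup.of_card (n := 1) (by rw [Nat.card_zpowers, s.orderOf_z, pow_one])
  set P := hzP.toSylow hidx
  have hP : Nat.card (P : Subgroup (G ⧸ Subgroup.center G)) = p := by
    show Nat.card (Subgroup.zpowers s.z) = p
    rw [Nat.card_zpowers, s.orderOf_z]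
  have hC : Subgroup.centralizer ((P : Subgroup (G ⧸ Subgroup.center G)) :
      Set (G ⧸ Subgroup.center G)) =
      (P : Subgroup (G ⧸ Subgroup.center G)) := by
    show Subgroup.centralizer ((Subgroup.zpowers s.z : Subgroup _) : Set _) = Subgroup.zpowers s.z
    rw [BlocksCore.centralizer_zpowers]
    refine (Subgroup.eq_of_le_of_card_ge (Subgroup.zpowers_le.mpr
      (Subgroup.mem_centralizer_singleton_iff.mpr rfl)) ?_).symm
    rw [s.card_cent, hK, Subgroup.card_bot, mul_one, Nat.card_zpowers, s.orderOf_z]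
  have hN : Nat.card (Subgroup.normalizer ((P : Subgroup (G ⧸ Subgroup.center G)) :
      Set (G ⧸ Subgroup.center G))) =
      2 * p := by
    show Nat.card (Subgroup.normalizer ((Subgroup.zpowers s.z : Subgroup (G ⧸ Subgroup.center G)) :
      Set (G ⧸ Subgroup.center G))) = 2 * p
    rw [s.card_normalizer, he, hK, Subgroup.card_bot, mul_one]
  obtain ⟨-, -, a, F, i1, i2, -, hpa, hFc, he'⟩ := CharDeep.OrderP.recognition D.not_comm_bar
    hp5.le P hP hC hN ⟨D2.f o₀, Or.inr (by
      rw [(Setup.deg_spec (D2.f o₀)).2.2, D2.deg_f, hbn,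
        show charDegree (D.χ : G → ℂ) = p - 2 by have := D.hdeg; omega])⟩
  exact ⟨a, F, i1, i2, hpa, hFc, he'⟩

/-- In the perfect case the centre is trivial. -/
theorem center_eq_bot : Subgroup.center G = ⊥ := by
  classical
  obtain ⟨a, F, i1, i2, hpa, hF, ⟨e⟩⟩ := D.exists_bar_equiv hperf hp5
  by_contra hne
  obtain ⟨r, hr, hrd⟩ := Nat.exists_prime_and_dvd
    (fun h : Nat.card (Subgroup.center G) = 1 => hne (Subgroup.card_eq_one.mp h))
  haveI := Fact.mk hr
  obtain ⟨c, hc⟩ := exists_prime_orderOf_dvd_card' r hrd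
  have hco : orderOf (c : G) = r := by rw [Subgroup.orderOf_coe, hc]
  have hcn := D.pow_eq_one_of_mem_center hperf c.2
  have hrn : r ∣ charDegree (D.χ : G → ℂ) := (dvd_of_eq hco.symm).trans
    (orderOf_dvd_of_pow_eq_one hcn)
  have hr2 : r ≠ 2 := fun h => by
    subst h
    exact (Nat.not_even_iff_odd.mpr D.odd_deg) (even_iff_two_dvd.mpr hrn)
  have hrq : ¬ r ∣ Nat.card F := by
    rw [Nat.card_eq_fintype_card, hF]
    exact fun h => hr2 ((Nat.prime_dvd_prime_iff_eq hr Nat.prime_two).mp (hr.dvd_of_dvd_pow h))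
  obtain ⟨Q, hQ⟩ := (IsPGroup.of_card (n := 1) (by rw [Nat.card_zpowers, hco, pow_one]) :
    IsPGroup r (Subgroup.zpowers (c : G))).exists_le_sylow
  have hcQ : (c : G) ∈ (Q : Subgroup G) := hQ (Subgroup.mem_zpowers _)
  let f : (Q : Subgroup G) →* Matrix.SpecialLinearGroup (Fin 2) F :=
    e.toMonoidHom.comp ((QuotientGroup.mk' (Subgroup.center G)).comp (Q : Subgroup G).subtype)
  have hrange : IsPGroup r f.range := Q.2.of_surjective f.rangeRestrict f.rangeRestrict_surjective
  obtain ⟨R, hR⟩ := hrange.exists_le_sylow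
  haveI := LinearGroup.isCyclic_sylow_SL_two hr2 hrq R
  haveI : IsCyclic f.range := isCyclic_of_injective (Subgroup.inclusion hR) (Subgroup.inclusion_injective hR)
  have hker : f.rangeRestrict.ker ≤ Subgroup.center (Q : Subgroup G) := by
    intro x hx
    rw [MonoidHom.ker_rangeRestrict, MonoidHom.mem_ker] at hx
    have h1 : ((x : G) : G ⧸ Subgroup.center G) = 1 := e.injective (hx.trans (map_one e).symm)
    exact Subgroup.mem_center_iff.mpr fun y => Subtype.ext
      (Subgroup.mem_center_iff.mp ((QuotientGroup.eq_one_iff _).mp h1) y)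
  have hcomm : ∀ x y : (Q : Subgroup G), x * y = y * x :=
    commutative_of_cyclic_center_quotient f.rangeRestrict hker
  letI : CommGroup (Q : Subgroup G) :=
    { (inferInstance : Group (Q : Subgroup G)) with mul_comm := hcomm }
  let φ := MonoidHom.transfer (MonoidHom.id (Q : Subgroup G))
  have h1 : φ (c : G) = 1 := Few.hom_eq_one_of_perfect hperf φ c
  have h2 := MonoidHom.transfer_eq_pow (MonoidHom.id (Q : Subgroup G)) (c : G)
    (fun k g₀ _ => by
      have h : (c : G) ^ k ∈ Subgroup.center G := pow_mem c.2 k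
      rw [mul_assoc, ← Subgroup.mem_center_iff.mp h g₀, inv_mul_cancel_left])
  have h3 : (c : G) ^ (Q : Subgroup G).index = 1 := by
    have := congrArg Subtype.val (h2.symm.trans h1)
    exact this
  have h4 : r ∣ (Q : Subgroup G).index := (dvd_of_eq hco.symm).trans
    (orderOf_dvd_of_pow_eq_one h3)
  exact Q.not_dvd_index h4

omit hperf

/-- A group with the hypotheses is `SL₂(2 ^ a) × Z`. -/
theorem exists_equiv : ∃ (a : ℕ) (F : Type) (_ : Field F) (_ : Fintype F), p = 2 ^ a + 1 ∧
    Fintype.card F = 2 ^ a ∧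
    Nonempty (G ≃* Matrix.SpecialLinearGroup (Fin 2) F × Subgroup.center G) := by
  classical
  haveI := Fintype.ofFinite (commutator G)
  obtain ⟨D', -⟩ := D.exists_restrict
  obtain ⟨a, F, i1, i2, hpa, hF, ⟨e⟩⟩ := D'.exists_bar_equiv D.commutator_perfect hp5
  have hbot := D'.center_eq_bot D.commutator_perfect hp5
  let e' : (commutator G) ≃* Matrix.SpecialLinearGroup (Fin 2) F :=
    (QuotientGroup.quotientBot.symm.trans (QuotientGroup.quotientMulEquivOfEq hbot.symm)).trans e
  let f : (commutator G) × Subgroup.center G →* G :=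
    { toFun := fun z => (z.1 : G) * z.2
      map_one' := by simp
      map_mul' := fun a b => by
        simp only [Prod.fst_mul, Prod.snd_mul, Subgroup.coe_mul]
        calc ((a.1 : G) * b.1) * ((a.2 : G) * b.2) = (a.1 : G) * ((b.1 : G) * a.2) * b.2 := by
              group
          _ = (a.1 : G) * ((a.2 : G) * b.1) * b.2 := by
              rw [Subgroup.mem_center_iff.mp a.2.2 (b.1 : G)]
          _ = _ := by group }
  have hbij : Function.Bijective f := by
    refine ⟨(injective_iff_map_eq_one f).mpr fun z hz => ?_, fun g => ?_⟩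
    · have hz' : (z.1 : G) * z.2 = 1 := hz
      have h1 : (z.1 : G) ∈ Subgroup.center G := by
        rw [eq_inv_of_mul_eq_one_left hz']; exact inv_mem z.2.2
      have h2 : z.1 ∈ Subgroup.center (commutator G) := Subgroup.mem_center_iff.mpr fun y =>
        Subtype.ext (Subgroup.mem_center_iff.mp h1 y)
      rw [hbot, Subgroup.mem_bot] at h2
      rw [h2, OneMemClass.coe_one, one_mul] at hz'
      exact Prod.ext h2 (Subtype.ext hz')
    · obtain ⟨l, hl, c, hc, rfl⟩ := D.exists_mul_center g
      exact ⟨(⟨l, hl⟩, ⟨c, hc⟩), rfl⟩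
  exact ⟨a, F, i1, i2, hpa, hF,
    ⟨(MulEquiv.ofBijective f hbij).symm.trans (e'.prodCongr (MulEquiv.refl _))⟩⟩

end Data

end Cfsg.Agent.SmallGroups.DegTwo
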