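import Cfsg.Agent.Lib.SmallGroups.DegTwo.Local
import Cfsg.Agent.BlkChar.PSolvDegree
import Cfsg.Agent.Lib.Thompson.PSolvable
import Cfsg.Agent.Lib.SmallGroups.SelfCent.Structure
import Mathlib.GroupTheory.Transfer

/-!
# Faithful characters of degree `p - 2`: the group modulo its centre

The group modulo its centre is simple, and the derived subgroup is perfect and carries the same
hypotheses.
-/

set_option linter.unusedSectionVars false
set_option linter.style.haveILetI false
set_option autoImplicit false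

open Cfsg
open scoped ComplexConjugate commutatorElement

namespace Cfsg.Agent.SmallGroups.DegTwo

open BlocksCore BlocksDefect SmallGroups.SelfCent BlkChar.SmallDegree

universe u

variable {G : Type u} [Group G] [Fintype G] {p : ℕ} [Fact p.Prime]

theorem not_dvd_index_zpowers (hsq : ¬ p ^ 2 ∣ Nat.card G) {z : G} (hz : orderOf z = p) :
    ¬ p ∣ (Subgroup.zpowers z).index := fun h => hsq (by
  rw [← Subgroup.card_mul_index (Subgroup.zpowers z), Nat.card_zpowers, hz, pow_two]
  exact Nat.mul_dvd_mul_left p h)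

/-- The hypotheses: `z` generates a Sylow subgroup of order `p`, not normal, and `χ` is faithful
irreducible of degree `p - 2`. -/
structure Data (G : Type u) [Group G] [Fintype G] (p : ℕ) [Fact p.Prime] where
  s : Setup G p
  hp5 : 5 ≤ p
  hsq : ¬ p ^ 2 ∣ Nat.card G
  hP : ¬ (Subgroup.zpowers s.z).Normal
  χ : IrrCharacter G
  hf : ∀ g : G, (χ : G → ℂ) g = (χ : G → ℂ) 1 → g = 1
  hdeg : charDegree (χ : G → ℂ) + 2 = p

namespace Data

variable (D : Data G p)

include D

theorem hidx : ¬ p ∣ (Subgroup.zpowers D.s.z).index := not_dvd_index_zpowers D.hsq D.s.orderOf_z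

theorem zpow_p : D.s.z ^ p = 1 := by
  have h := pow_orderOf_eq_one D.s.z
  rwa [D.s.orderOf_z] at h

theorem conj_pow_p (g : G) : (g * D.s.z * g⁻¹) ^ p = 1 := by
  rw [conj_pow, D.zpow_p, mul_one, mul_inv_cancel]

theorem notMem_center : D.s.z ∉ Subgroup.center G := fun h => D.hP
  ⟨fun x hx g => by
    obtain ⟨i, rfl⟩ := Subgroup.mem_zpowers_iff.mp hx
    rw [Subgroup.mem_center_iff.mp (zpow_mem h i) g, mul_inv_cancel_right]
    exact hx⟩

theorem K_le : D.s.K ≤ Subgroup.center G :=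
  (local_structure D.s D.hidx D.hp5 D.χ D.hf D.hdeg D.notMem_center).1

theorem relIndex_cent : (Subgroup.centralizer ({D.s.z} : Set G)).relIndex
    (Subgroup.normalizer ((Subgroup.zpowers D.s.z : Subgroup G) : Set G)) = 2 :=
  (local_structure D.s D.hidx D.hp5 D.χ D.hf D.hdeg D.notMem_center).2

theorem cent_le_normalizer : Subgroup.centralizer ({D.s.z} : Set G) ≤
    Subgroup.normalizer ((Subgroup.zpowers D.s.z : Subgroup G) : Set G) := by
  rw [← BlocksCore.centralizer_zpowers]
  exact Subgroup.centralizer_le_normalizer _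

theorem card_auto : Nat.card D.s.auto = 2 := by
  have h := Subgroup.card_mul_index ((Subgroup.centralizer ({D.s.z} : Set G)).subgroupOf
    (Subgroup.normalizer ((Subgroup.zpowers D.s.z : Subgroup G) : Set G)))
  rw [Nat.card_congr (Subgroup.subgroupOfEquivOfLe D.cent_le_normalizer).toEquiv,
    D.s.card_cent, D.s.card_normalizer, ← Subgroup.relIndex, D.relIndex_cent] at h
  have h0 : 0 < p * Nat.card D.s.K := Nat.mul_pos (Fact.out : p.Prime).pos Nat.card_pos
  exact (Nat.eq_of_mul_eq_mul_left h0 (h.trans (mul_comm _ _))).symm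

/-- An element of order dividing `p` commuting with `z` lies in `⟨z⟩`. -/
theorem mem_zpowers_of_commute {y : G} (h : y * D.s.z = D.s.z * y) (hy : y ^ p = 1) :
    y ∈ Subgroup.zpowers D.s.z := by
  obtain ⟨a, w, hw, rfl⟩ := D.s.exists_of_mem_cent (Subgroup.mem_centralizer_singleton_iff.mpr h)
  rw [(D.s.comm_zp a hw).mul_pow, D.s.zp_pow, ZMod.natCast_self, mul_zero, D.s.zp_zero,
    one_mul] at hy
  have h1 : orderOf w ∣ p := orderOf_dvd_of_pow_eq_one hy
  have h2 : orderOf w ∣ Nat.card D.s.K := Subgroup.orderOf_dvd_natCard _ hw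
  have h3 : orderOf w ∣ 1 := (D.s.coprime_card : Nat.Coprime p _) ▸ Nat.dvd_gcd h1 h2
  rw [orderOf_eq_one_iff.mp (Nat.dvd_one.mp h3), mul_one]
  exact pow_mem (Subgroup.mem_zpowers _) _

/-- Elements of order `p` equal modulo the centre are equal. -/
theorem eq_of_mk_eq {x y : G} (hx : x ^ p = 1) (hy : y ^ p = 1)
    (h : (x : G ⧸ Subgroup.center G) = y) : x = y := by
  set c := x⁻¹ * y with hcdef
  have hc : c ∈ Subgroup.center G := QuotientGroup.eq.mp h
  have hcp : c ^ p = 1 := by
    have hcx : Commute x c := Subgroup.mem_center_iff.mp hc x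
    have e : y = x * c := by rw [hcdef, mul_inv_cancel_left]
    rwa [e, hcx.mul_pow, hx, one_mul] at hy
  obtain ⟨i, hi⟩ := Subgroup.mem_zpowers_iff.mp
    (D.mem_zpowers_of_commute (Subgroup.mem_center_iff.mp hc D.s.z).symm hcp)
  by_contra hne
  have hc1 : c ≠ 1 := fun h1 => hne (inv_mul_eq_one.mp h1)
  refine D.notMem_center ?_
  have hgen : Subgroup.zpowers c = Subgroup.zpowers D.s.z :=
    Subgroup.eq_of_le_of_card_ge (Subgroup.zpowers_le.mpr ⟨i, hi⟩) (by
      rw [Nat.card_zpowers, Nat.card_zpowers, D.s.orderOf_z, orderOf_eq_prime hcp hc1])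
  exact (Subgroup.zpowers_le.mpr hc) (hgen ▸ Subgroup.mem_zpowers D.s.z)

/-- A normal subgroup of order divisible by `p` contains every element of order `p`. -/
theorem mem_of_dvd_card (U : Subgroup G) [U.Normal] (hU : p ∣ Nat.card U) {y : G}
    (hy : y ^ p = 1) : y ∈ U := by
  refine mem_of_pow_eq_one Fact.out (fun h => D.hsq ?_) hy
  rw [← Subgroup.card_mul_index U, pow_two]
  exact mul_dvd_mul hU h

/-- Normal subgroups without `z` are central. -/
theorem le_center_of_notMem {U : Subgroup G} [U.Normal] (hz : D.s.z ∉ U) :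
    U ≤ Subgroup.center G := by
  classical
  have hp : p.Prime := Fact.out
  have hpU : ¬ p ∣ Nat.card U := fun h => hz (D.mem_of_dvd_card U h D.zpow_p)
  set P := Subgroup.zpowers D.s.z with hPdef
  set W := U ⊔ P with hW
  have hUW : U ≤ W := le_sup_left
  have hzW : D.s.z ∈ W := le_sup_right (b := P) (Subgroup.mem_zpowers _)
  have hsqW : ¬ p ^ 2 ∣ Nat.card W := fun h => D.hsq (h.trans (Subgroup.card_subgroup_dvd_card _))
  have hzo : orderOf (⟨D.s.z, hzW⟩ : W) = p := by rw [Subgroup.orderOf_mk, D.s.orderOf_z]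
  have hsolv : IsPSolvable p W := by
    refine Thompson.isPSolvable_of_quotient (U.subgroupOf W) (Or.inr ?_)
      (Thompson.isPSolvable_of_isPGroup ?_)
    · rw [Nat.card_congr (Subgroup.subgroupOfEquivOfLe hUW).toEquiv]
      exact (hp.coprime_iff_not_dvd.mpr hpU).symm
    · intro q
      obtain ⟨⟨w, hw⟩, rfl⟩ := QuotientGroup.mk_surjective q
      obtain ⟨u, hu, y, hy, rfl⟩ := Subgroup.mem_sup_of_normal_left.mp hw
      refine ⟨1, ?_⟩
      have e : ((⟨u * y, hw⟩ : W) : W ⧸ U.subgroupOf W) =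
          ((⟨y, Subgroup.mem_sup_right hy⟩ : W) : W ⧸ U.subgroupOf W) := by
        rw [show (⟨u * y, hw⟩ : W) = (⟨u, hUW hu⟩ : W) * ⟨y, Subgroup.mem_sup_right hy⟩ from rfl,
          QuotientGroup.mk_mul, (QuotientGroup.eq_one_iff (⟨u, hUW hu⟩ : W)).mpr hu, one_mul]
      rw [pow_one, e, ← QuotientGroup.mk_pow]
      obtain ⟨i, rfl⟩ := Subgroup.mem_zpowers_iff.mp hy
      rw [show (⟨D.s.z ^ i, Subgroup.mem_sup_right hy⟩ : W) ^ p = 1 from Subtype.ext (by
        rw [SubgroupClass.coe_pow, ← zpow_natCast, ← zpow_mul, mul_comm, zpow_mul, zpow_natCast,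
          D.zpow_p, one_zpow]; rfl), QuotientGroup.mk_one]
  have hPW : IsPGroup p (Subgroup.zpowers (⟨D.s.z, hzW⟩ : W)) :=
    IsPGroup.of_card (n := 1) (by rw [Nat.card_zpowers, hzo, pow_one])
  let Q : Sylow p W := hPW.toSylow (not_dvd_index_zpowers hsqW hzo)
  have hQ : (Subgroup.zpowers (⟨D.s.z, hzW⟩ : W)).Normal := by
    by_contra h
    have h1 := BlkChar.PSolv.structure_of_degree_le hsolv
      (CharCore.isCharacter_restrict (CharCore.irr_isCharacter D.χ) W)
      (fun g hg => Subtype.ext (D.hf g hg)) (n := charDegree (D.χ : G → ℂ)) (irr_one_eq D.χ)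
      (by have := D.hdeg; omega) Q h
    have := charDegree_pos D.χ
    have := D.hdeg
    omega
  intro u hu
  refine D.K_le (D.s.mem_K_of_pow_eq_one ?_ ?_)
  · obtain ⟨i, hi⟩ := Subgroup.mem_zpowers_iff.mp
      (hQ.conj_mem _ (Subgroup.mem_zpowers (⟨D.s.z, hzW⟩ : W)) ⟨u, hUW hu⟩)
    have hi' : D.s.z ^ i = u * D.s.z * u⁻¹ := congrArg Subtype.val hi
    have hmem : u * D.s.z * u⁻¹ * D.s.z⁻¹ ∈ P :=
      mul_mem (hi' ▸ zpow_mem (Subgroup.mem_zpowers _) i) (inv_mem (Subgroup.mem_zpowers _))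
    have hmemU : u * D.s.z * u⁻¹ * D.s.z⁻¹ ∈ U := by
      rw [show u * D.s.z * u⁻¹ * D.s.z⁻¹ = u * (D.s.z * u⁻¹ * D.s.z⁻¹) by group]
      exact mul_mem hu (‹U.Normal›.conj_mem _ (inv_mem hu) _)
    have h1 : orderOf (u * D.s.z * u⁻¹ * D.s.z⁻¹) ∣ 1 := by
      rw [← (hp.coprime_iff_not_dvd.mpr hpU : Nat.gcd p _ = 1)]
      refine Nat.dvd_gcd ?_ (Subgroup.orderOf_dvd_natCard U hmemU)
      have := Subgroup.orderOf_dvd_natCard P hmem
      rwa [hPdef, Nat.card_zpowers, D.s.orderOf_z] at this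
    exact Subgroup.mem_centralizer_singleton_iff.mpr (mul_inv_eq_iff_eq_mul.mp
      (mul_inv_eq_one.mp (orderOf_eq_one_iff.mp (Nat.dvd_one.mp h1))))
  · have hc : u ∈ Subgroup.centralizer ({D.s.z} : Set G) := by
      obtain ⟨i, hi⟩ := Subgroup.mem_zpowers_iff.mp
        (hQ.conj_mem _ (Subgroup.mem_zpowers (⟨D.s.z, hzW⟩ : W)) ⟨u, hUW hu⟩)
      have hi' : D.s.z ^ i = u * D.s.z * u⁻¹ := congrArg Subtype.val hi
      have hmem : u * D.s.z * u⁻¹ * D.s.z⁻¹ ∈ P :=
        mul_mem (hi' ▸ zpow_mem (Subgroup.mem_zpowers _) i) (inv_mem (Subgroup.mem_zpowers _))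
      have hmemU : u * D.s.z * u⁻¹ * D.s.z⁻¹ ∈ U := by
        rw [show u * D.s.z * u⁻¹ * D.s.z⁻¹ = u * (D.s.z * u⁻¹ * D.s.z⁻¹) by group]
        exact mul_mem hu (‹U.Normal›.conj_mem _ (inv_mem hu) _)
      have h1 : orderOf (u * D.s.z * u⁻¹ * D.s.z⁻¹) ∣ 1 := by
        rw [← (hp.coprime_iff_not_dvd.mpr hpU : Nat.gcd p _ = 1)]
        refine Nat.dvd_gcd ?_ (Subgroup.orderOf_dvd_natCard U hmemU)
        have := Subgroup.orderOf_dvd_natCard P hmem
        rwa [hPdef, Nat.card_zpowers, D.s.orderOf_z] at this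
      exact Subgroup.mem_centralizer_singleton_iff.mpr (mul_inv_eq_iff_eq_mul.mp
        (mul_inv_eq_one.mp (orderOf_eq_one_iff.mp (Nat.dvd_one.mp h1))))
    rw [← orderOf_dvd_iff_pow_eq_one]
    have h1 : orderOf u ∣ Nat.card U := Subgroup.orderOf_dvd_natCard U hu
    have h2 : orderOf u ∣ p * Nat.card D.s.K := D.s.card_cent ▸ Subgroup.orderOf_dvd_natCard _ hc
    exact ((hp.coprime_iff_not_dvd.mpr fun h => hpU (h.trans h1)).symm).dvd_of_dvd_mul_left h2

/-- Normal subgroups containing `z` and the centre are everything. -/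
theorem eq_top_of_mem {U : Subgroup G} [U.Normal] (hz : D.s.z ∈ U)
    (hZ : Subgroup.center G ≤ U) : U = ⊤ := by
  classical
  have hp : p.Prime := Fact.out
  set N := Subgroup.normalizer ((Subgroup.zpowers D.s.z : Subgroup G) : Set G) with hN
  set C := Subgroup.centralizer ({D.s.z} : Set G) with hC
  have hCU : C ≤ U := fun x hx => by
    obtain ⟨a, w, hw, rfl⟩ := D.s.exists_of_mem_cent hx
    exact mul_mem (pow_mem hz _) (hZ (D.K_le hw))
  have hpU : p ∣ Nat.card U := D.s.orderOf_z ▸ Subgroup.orderOf_dvd_natCard U hz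
  have hall : ∀ g : G, g * D.s.z * g⁻¹ ∈ U := fun g => ‹U.Normal›.conj_mem _ hz g
  have hsqU : ¬ p ^ 2 ∣ Nat.card U := fun h => D.hsq (h.trans (Subgroup.card_subgroup_dvd_card _))
  set z' : U := ⟨D.s.z, hz⟩ with hz'
  have hz'o : orderOf z' = p := by rw [hz', Subgroup.orderOf_mk, D.s.orderOf_z]
  have hP' : IsPGroup p (Subgroup.zpowers z') :=
    IsPGroup.of_card (n := 1) (by rw [Nat.card_zpowers, hz'o, pow_one])
  set Q : Sylow p U := hP'.toSylow (not_dvd_index_zpowers hsqU hz'o) with hQ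
  by_contra hne
  -- the normalizer in `U` centralizes
  have hNU : ∀ x ∈ U, x ∈ N → x ∈ C := by
    intro x hx hxN
    by_contra hxC
    refine hne (top_le_iff.mp fun g _ => ?_)
    -- Frattini
    obtain ⟨u, hu⟩ := MulAction.exists_smul_eq U (hP'.toSylow (not_dvd_index_zpowers hsqU hz'o))
      ((IsPGroup.of_card (n := 1) (by
        rw [Nat.card_zpowers, Subgroup.orderOf_mk,
          show orderOf (g * D.s.z * g⁻¹) = p by
            rw [← MulAut.conj_apply, MulEquiv.orderOf_eq, D.s.orderOf_z], pow_one]) :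
        IsPGroup p (Subgroup.zpowers (⟨g * D.s.z * g⁻¹, hall g⟩ : U))).toSylow
          (not_dvd_index_zpowers hsqU (by
            rw [Subgroup.orderOf_mk, ← MulAut.conj_apply, MulEquiv.orderOf_eq, D.s.orderOf_z])))
    have hmem : u * z' * u⁻¹ ∈ Subgroup.zpowers (⟨g * D.s.z * g⁻¹, hall g⟩ : U) := by
      have h1 : u * z' * u⁻¹ ∈ ((u • Q : Sylow p U) : Subgroup U) :=
        ⟨z', Subgroup.mem_zpowers z', rfl⟩
      rw [hQ, hu] at h1
      exact h1
    obtain ⟨i, hi⟩ := Subgroup.mem_zpowers_iff.mp hmem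
    have hi' : (g * D.s.z * g⁻¹) ^ i = (u : G) * D.s.z * (u : G)⁻¹ := congrArg Subtype.val hi
    have hn : g⁻¹ * (u : G) ∈ N := by
      have h1 : g⁻¹ * (u : G) * D.s.z * (g⁻¹ * (u : G))⁻¹ = D.s.z ^ i := by
        calc g⁻¹ * (u : G) * D.s.z * (g⁻¹ * (u : G))⁻¹
            = g⁻¹ * ((u : G) * D.s.z * (u : G)⁻¹) * g := by group
          _ = _ := by rw [← hi', conj_zpow]; group
      have hj : D.s.z ^ i ∈ Subgroup.zpowers D.s.z := ⟨i, rfl⟩
      obtain ⟨j, hj'⟩ := ((isOfFinOrder_of_finite D.s.z).mem_powers_iff_mem_zpowers).mpr hj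
      have hj0 : (j : ZMod p) ≠ 0 := by
        intro h0
        have : D.s.z ^ j = 1 := by rw [← D.s.zp_natCast, h0, D.s.zp_zero]
        rw [← hj', show (fun n : ℕ => D.s.z ^ n) j = D.s.z ^ j from rfl, this,
          conj_eq_one_iff] at h1
        have := D.s.orderOf_z
        rw [h1, orderOf_one] at this
        exact hp.ne_one this.symm
      refine CyclicTwist.mem_normalizer_of_conj (s := D.s) (a := Units.mk0 _ hj0) ?_
      rw [h1, Units.val_mk0, D.s.zp_natCast]
      exact hj'.symm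
    -- `N = C ∪ x C`
    have h2 : g⁻¹ * (u : G) ∈ C ∨ x⁻¹ * (g⁻¹ * (u : G)) ∈ C := by
      by_cases h : g⁻¹ * (u : G) ∈ C
      · exact Or.inl h
      · right
        have hidx : (C.subgroupOf N).index = 2 := D.relIndex_cent
        have := (Subgroup.mul_mem_iff_of_index_two hidx (a := ⟨x⁻¹, inv_mem hxN⟩)
          (b := ⟨g⁻¹ * (u : G), hn⟩)).mpr (by
            simp only [Subgroup.mem_subgroupOf, inv_mem_iff]
            exact iff_of_false hxC h)
        exact Subgroup.mem_subgroupOf.mp this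
    have h3 : g⁻¹ * (u : G) ∈ U := by
      rcases h2 with h | h
      · exact hCU h
      · have := mul_mem hx (hCU h)
        rwa [mul_inv_cancel_left] at this
    have := mul_mem u.2 (inv_mem h3)
    rw [mul_inv_rev, inv_inv, mul_inv_cancel_left] at this
    exact this
  have hb : Subgroup.normalizer (Q : Set U) ≤ Subgroup.centralizer (Q : Set U) := by
    intro x hx
    have hxN : (x : G) ∈ N := by
      have h := (Subgroup.mem_normalizer_iff.mp hx z').mp (Subgroup.mem_zpowers z')
      obtain ⟨i, hi⟩ := ((isOfFinOrder_of_finite z').mem_powers_iff_mem_zpowers).mpr h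
      have hi' : D.s.z ^ i = (x : G) * D.s.z * (x : G)⁻¹ := congrArg Subtype.val hi
      have hi0 : (i : ZMod p) ≠ 0 := by
        intro h0
        rw [← D.s.zp_natCast, h0, D.s.zp_zero, eq_comm, conj_eq_one_iff] at hi'
        have := D.s.orderOf_z
        rw [hi', orderOf_one] at this
        exact hp.ne_one this.symm
      exact CyclicTwist.mem_normalizer_of_conj (s := D.s) (a := Units.mk0 _ hi0)
        (by rw [← hi', Units.val_mk0, D.s.zp_natCast])
    have hc : Commute (x : G) D.s.z :=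
      Subgroup.mem_centralizer_singleton_iff.mp (hNU x x.2 hxN)
    refine Subgroup.mem_centralizer_iff.mpr fun y hy => ?_
    obtain ⟨i, rfl⟩ := Subgroup.mem_zpowers_iff.mp (show y ∈ Subgroup.zpowers z' from hy)
    exact ((show Commute x z' from Subtype.ext hc).zpow_right i).eq.symm
  set V := (MonoidHom.transferSylow Q hb).ker with hV
  have hVc := MonoidHom.ker_transferSylow_isComplement' Q hb
  have hVp : ¬ p ∣ Nat.card V := MonoidHom.not_dvd_card_ker_transferSylow Q hb
  have hcharV : ∀ y : U, ¬ p ∣ orderOf y → y ∈ V := by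
    intro y hy
    have h1 : orderOf (MonoidHom.transferSylow Q hb y) ∣ orderOf y := orderOf_map_dvd _ y
    have h2 : orderOf (MonoidHom.transferSylow Q hb y) ∣ p := by
      refine (orderOf_dvd_natCard _).trans (dvd_of_eq ?_)
      show Nat.card (Subgroup.zpowers z') = p
      rw [Nat.card_zpowers, hz'o]
    rcases (Nat.dvd_prime hp).mp h2 with h | h
    · exact MonoidHom.mem_ker.mpr (orderOf_eq_one_iff.mp h)
    · exact absurd (h ▸ h1) hy
  haveI : (V.map U.subtype).Normal := ⟨fun v hv g => by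
    obtain ⟨v, hv', rfl⟩ := hv
    refine ⟨⟨g * v * g⁻¹, ‹U.Normal›.conj_mem _ v.2 g⟩, hcharV _ fun h => hVp ?_, rfl⟩
    rw [Subgroup.orderOf_mk, ← MulAut.conj_apply, MulEquiv.orderOf_eq, Subgroup.orderOf_coe] at h
    exact h.trans (Subgroup.orderOf_dvd_natCard V hv')⟩
  have hVZ : V.map U.subtype ≤ Subgroup.center G := by
    refine D.le_center_of_notMem fun h => hVp ?_
    obtain ⟨v, hv, hve⟩ := h
    have : orderOf v = p := by
      rw [← Subgroup.orderOf_coe, show ((v : U) : G) = D.s.z from hve, D.s.orderOf_z]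
    exact this ▸ Subgroup.orderOf_dvd_natCard V hv
  refine D.hP ⟨fun x hx g => ?_⟩
  obtain ⟨i, rfl⟩ := Subgroup.mem_zpowers_iff.mp hx
  rw [← conj_zpow]
  refine zpow_mem (D.mem_zpowers_of_commute ?_ (D.conj_pow_p g)) i
  obtain ⟨⟨v, y⟩, hvy⟩ := hVc.2 ⟨g * D.s.z * g⁻¹, hall g⟩
  obtain ⟨j, hj⟩ := Subgroup.mem_zpowers_iff.mp (show (y : U) ∈ Subgroup.zpowers z' from y.2)
  have hvG : ((v : U) : G) ∈ Subgroup.center G := hVZ ⟨v, v.2, rfl⟩
  have e : g * D.s.z * g⁻¹ = ((v : U) : G) * D.s.z ^ j := by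
    have := congrArg Subtype.val hvy
    simp only [Subgroup.coe_mul, ← hj, SubgroupClass.coe_zpow] at this
    exact this.symm
  rw [e]
  exact ((show Commute ((v : U) : G) D.s.z from
    (Subgroup.mem_center_iff.mp hvG D.s.z).symm).mul_left
    ((Commute.refl D.s.z).zpow_left j)).eq

/-- `G` modulo its centre is simple. -/
theorem isSimpleGroup_bar : IsSimpleGroup (G ⧸ Subgroup.center G) := by
  haveI : Nontrivial (G ⧸ Subgroup.center G) :=
    ⟨⟨(D.s.z : G ⧸ _), 1, fun h => D.notMem_center ((QuotientGroup.eq_one_iff _).mp h)⟩⟩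
  refine ⟨fun N hN => ?_⟩
  haveI := hN
  set U := N.comap (QuotientGroup.mk' (Subgroup.center G)) with hU
  have hNU : N = U.map (QuotientGroup.mk' (Subgroup.center G)) :=
    (Subgroup.map_comap_eq_self_of_surjective (QuotientGroup.mk'_surjective _) N).symm
  by_cases hz : D.s.z ∈ U
  · right
    have hZU : Subgroup.center G ≤ U := fun c hc => by
      show (c : G ⧸ Subgroup.center G) ∈ N
      rw [(QuotientGroup.eq_one_iff c).mpr hc]
      exact one_mem _
    rw [hNU, D.eq_top_of_mem hz hZU, Subgroup.map_top_of_surjective _ (QuotientGroup.mk'_surjective _)]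
  · left
    rw [hNU, Subgroup.map_eq_bot_iff, QuotientGroup.ker_mk']
    exact D.le_center_of_notMem hz

theorem not_comm_bar : ¬ IsMulCommutative (G ⧸ Subgroup.center G) := by
  intro hc
  refine D.notMem_center (Subgroup.mem_center_iff.mpr fun g => ?_)
  refine mul_inv_eq_iff_eq_mul.mp (D.eq_of_mk_eq (D.conj_pow_p g) D.zpow_p ?_)
  rw [QuotientGroup.mk_mul, QuotientGroup.mk_mul, QuotientGroup.mk_inv,
    isMulCommutative_iff.mp hc (g : G ⧸ _) (D.s.z : G ⧸ _), mul_inv_cancel_right]

theorem commutator_sup_center : commutator G ⊔ Subgroup.center G = ⊤ := by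
  haveI := D.isSimpleGroup_bar
  set f := QuotientGroup.mk' (Subgroup.center G) with hf
  rcases (inferInstance : ((commutator G).map f).Normal).eq_bot_or_eq_top with h | h
  · exfalso
    refine D.not_comm_bar (isMulCommutative_iff.mpr fun x y => ?_)
    obtain ⟨x, rfl⟩ := QuotientGroup.mk_surjective x
    obtain ⟨y, rfl⟩ := QuotientGroup.mk_surjective y
    rw [← commutatorElement_eq_one_iff_mul_comm]
    have h1 : f ⁅x, y⁆ ∈ (commutator G).map f :=
      ⟨_, Subgroup.commutator_mem_commutator (Subgroup.mem_top x) (Subgroup.mem_top y), rfl⟩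
    rw [h, Subgroup.mem_bot, map_commutatorElement] at h1
    exact h1
  · have h1 := congrArg (Subgroup.comap f) h
    rwa [Subgroup.comap_map_eq, Subgroup.comap_top, hf, QuotientGroup.ker_mk'] at h1

theorem exists_mul_center (g : G) : ∃ l ∈ commutator G, ∃ c ∈ Subgroup.center G, g = l * c := by
  obtain ⟨l, hl, c, hc, h⟩ := Subgroup.mem_sup_of_normal_left.mp
    (D.commutator_sup_center.symm ▸ Subgroup.mem_top g : g ∈ commutator G ⊔ Subgroup.center G)
  exact ⟨l, hl, c, hc, h.symm⟩

theorem z_mem_commutator : D.s.z ∈ commutator G := by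
  by_contra h
  have hle := D.le_center_of_notMem h
  have htop : Subgroup.center G = ⊤ :=
    top_le_iff.mp (D.commutator_sup_center.symm.le.trans (sup_le hle le_rfl))
  exact D.notMem_center (htop.symm ▸ Subgroup.mem_top _)

/-- The derived subgroup is perfect. -/
theorem commutator_perfect : commutator (commutator G) = ⊤ := by
  rw [← Subgroup.map_subtype_inj]
  rw [← MonoidHom.range_eq_map, Subgroup.range_subtype, Subgroup.map_subtype_commutator]
  refine le_antisymm (Subgroup.commutator_le_self _) ?_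
  rw [commutator_def, Subgroup.commutator_le]
  intro a _ b _
  obtain ⟨l, hl, c, hc, rfl⟩ := D.exists_mul_center a
  obtain ⟨m, hm, d, hd, rfl⟩ := D.exists_mul_center b
  have hc' := Subgroup.mem_center_iff.mp hc
  have hd' := Subgroup.mem_center_iff.mp hd
  have e : ⁅l * c, m * d⁆ = ⁅l, m⁆ := by
    rw [commutatorElement_def, commutatorElement_def, mul_inv_rev, mul_inv_rev]
    calc l * c * (m * d) * (c⁻¹ * l⁻¹) * (d⁻¹ * m⁻¹)
        = l * (c * (m * d)) * (c⁻¹ * l⁻¹) * (d⁻¹ * m⁻¹) := by group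
      _ = l * ((m * d) * c) * (c⁻¹ * l⁻¹) * (d⁻¹ * m⁻¹) := by rw [hc']
      _ = l * m * (d * l⁻¹) * (d⁻¹ * m⁻¹) := by group
      _ = l * m * (l⁻¹ * d) * (d⁻¹ * m⁻¹) := by rw [hd']
      _ = l * m * l⁻¹ * m⁻¹ := by group
  rw [e]
  exact Subgroup.commutator_mem_commutator hl hm

/-- The hypotheses restricted to the derived subgroup. -/
theorem exists_restrict [Fintype (commutator G)] :
    ∃ D' : Data (commutator G) p, (D'.s.z : G) = D.s.z := by
  classical
  have hzL := D.z_mem_commutator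
  have hsqL : ¬ p ^ 2 ∣ Nat.card (commutator G) := fun h => D.hsq (h.trans (Subgroup.card_subgroup_dvd_card _))
  set z' : (commutator G) := ⟨D.s.z, hzL⟩ with hz'def
  have hz' : orderOf z' = p := by rw [Subgroup.orderOf_mk, D.s.orderOf_z]
  have hirr : IsIrrCharacter (commutator G) (fun l : (commutator G) => (D.χ : G → ℂ) l) := by
    haveI := Fintype.ofFinite (Subgroup.center G)
    rw [CharCore.isIrrCharacter_iff]
    refine ⟨CharCore.isCharacter_restrict (CharCore.irr_isCharacter D.χ) (commutator G), ?_⟩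
    let F : G → ℂ := fun g => (D.χ : G → ℂ) g * conj ((D.χ : G → ℂ) g)
    have hn : ∀ c ∈ Subgroup.center G, cval D.χ c * conj (cval D.χ c) = 1 := by
      intro c hc
      have h1 : cval D.χ c ^ orderOf c = 1 := by
        rw [← cval_pow D.χ hc, pow_orderOf_eq_one, cval_one]
      rw [Complex.mul_conj, Complex.normSq_eq_norm_sq,
        Complex.norm_eq_one_of_pow_eq_one h1 (orderOf_pos c).ne']
      simp
    let f : (commutator G) × Subgroup.center G →* G :=
      { toFun := fun z => (z.1 : G) * z.2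
        map_one' := by simp
        map_mul' := fun a b => by
          simp only [Prod.fst_mul, Prod.snd_mul, Subgroup.coe_mul]
          calc ((a.1 : G) * b.1) * ((a.2 : G) * b.2) = (a.1 : G) * ((b.1 : G) * a.2) * b.2 := by
                group
            _ = (a.1 : G) * ((a.2 : G) * b.1) * b.2 := by
                rw [Subgroup.mem_center_iff.mp a.2.2 (b.1 : G)]
            _ = _ := by group }
    have hF : ∀ z, F (f z) = F z.1 := fun z => by
      show (D.χ : G → ℂ) ((z.1 : G) * z.2) * conj ((D.χ : G → ℂ) ((z.1 : G) * z.2)) = _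
      rw [apply_mul_of_center D.χ z.2.2, map_mul, mul_mul_mul_comm, hn _ z.2.2, one_mul]
    have hsurj : Function.Surjective f := fun g => by
      obtain ⟨l, hl, c, hc, rfl⟩ := D.exists_mul_center g
      exact ⟨(⟨l, hl⟩, ⟨c, hc⟩), rfl⟩
    have key : ∀ E : G → ℂ, ∑ z, E (f z) = (Nat.card f.ker : ℂ) * ∑ g, E g := fun E => by
      rw [← Finset.sum_fiberwise Finset.univ f, Finset.mul_sum]
      refine Finset.sum_congr rfl fun g _ => ?_
      rw [Finset.sum_congr rfl fun z hz => congrArg E (Finset.mem_filter.mp hz).2, Finset.sum_const,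
        nsmul_eq_mul]
      congr 2
      obtain ⟨z₀, rfl⟩ := hsurj g
      rw [← Nat.card_eq_finsetCard]
      refine Nat.card_congr
        { toFun := fun z => ⟨z₀⁻¹ * z.1, by
            rw [MonoidHom.mem_ker, map_mul, map_inv, (Finset.mem_filter.mp z.2).2,
              inv_mul_cancel]⟩
          invFun := fun k => ⟨z₀ * k.1, Finset.mem_filter.mpr ⟨Finset.mem_univ _, by
            rw [map_mul, MonoidHom.mem_ker.mp k.2, mul_one]⟩⟩
          left_inv := fun z => by ext <;> simp
          right_inv := fun k => by ext <;> simp }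
    have h1 := key F
    have h2 := key (fun _ => 1)
    have hself := CharCore.classInner_irr_self D.χ
    rw [CharCore.classInner_def, inv_mul_eq_one₀ (Nat.cast_ne_zero.mpr Nat.card_pos.ne')] at hself
    rw [CharCore.classInner_def, inv_mul_eq_one₀ (Nat.cast_ne_zero.mpr Nat.card_pos.ne')]
    simp only [Fintype.sum_prod_type, hF, Finset.sum_const, Finset.card_univ, nsmul_eq_mul,
      mul_one] at h1 h2
    simp only [← Nat.card_eq_fintype_card] at h1 h2
    change (Nat.card G : ℂ) = ∑ g, F g at hself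
    rw [← Finset.mul_sum, ← hself, ← h2, Nat.card_prod, Nat.cast_mul,
      mul_comm (Nat.card (commutator G) : ℂ)] at h1
    exact (mul_left_cancel₀
      (Nat.cast_ne_zero.mpr (Nat.card_pos (α := Subgroup.center G)).ne') h1).symm
  have hP' : ¬ (Subgroup.zpowers z').Normal := by
    intro hN
    refine D.hP ⟨fun x hx g => ?_⟩
    obtain ⟨i, rfl⟩ := Subgroup.mem_zpowers_iff.mp hx
    rw [← conj_zpow]
    refine zpow_mem ?_ i
    obtain ⟨l, hl, c, hc, rfl⟩ := D.exists_mul_center g
    obtain ⟨j, hj⟩ := Subgroup.mem_zpowers_iff.mp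
      (hN.conj_mem _ (Subgroup.mem_zpowers z') ⟨l, hl⟩)
    refine ⟨j, ?_⟩
    have hj' : D.s.z ^ j = l * D.s.z * l⁻¹ := congrArg Subtype.val hj
    show D.s.z ^ j = _
    rw [hj', mul_inv_rev]
    calc l * D.s.z * l⁻¹ = l * (D.s.z * c) * (c⁻¹ * l⁻¹) := by group
      _ = l * (c * D.s.z) * (c⁻¹ * l⁻¹) := by rw [Subgroup.mem_center_iff.mp hc]
      _ = _ := by group
  obtain ⟨s', hs'⟩ := BlocksCore.CyclicCount.exists_setup hz' (not_dvd_index_zpowers hsqL hz')
  let χ' : IrrCharacter (commutator G) := ⟨_, hirr⟩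
  have hdeg' : charDegree (χ' : (commutator G) → ℂ) + 2 = p := D.hdeg
  have hf' : ∀ g : (commutator G), (χ' : (commutator G) → ℂ) g = (χ' : (commutator G) → ℂ) 1 → g = 1 := fun g hg =>
    Subtype.ext (D.hf g hg)
  exact ⟨({ s := s', hp5 := D.hp5, hsq := hsqL, hP := hs' ▸ hP', χ := χ', hf := hf',
            hdeg := hdeg' } : Data (commutator G) p), by show (s'.z : G) = _; rw [hs']⟩

end Data

end Cfsg.Agent.SmallGroups.DegTwo
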